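import Cfsg.Agent.H413.E8.Lat
import Cfsg.Agent.H92.TorExpE8
import Cfsg.Agent.H371.Core.Torus
import Cfsg.Agent.H378.AdjE8

/-!
# `E₈(q)`, `q² ≡ -1 mod 5`: 5 is not adjacent to the primes of order 7 and 9 (helper413, S3636)

* `bf` : the Cartan form of `E₈`, even, unimodular and `W`-invariant;
* `no_cyc` : `Φ₄(w) Φ_m(w) = 0`, `m = 7` or `9`, `w` in the Weyl group: `Φ₄(w) = 0` or `Φ_m(w) = 0`;
* `ne_order` : no elements of order `5 r`, `q` of order 4 modulo 5 and of order 7 or 9 modulo `r`.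
-/

set_option autoImplicit false
set_option linter.unusedSectionVars false

namespace Cfsg.Agent.H413.E8.Non5

open Polynomial Module Cfsg Cfsg.Lie Cfsg.Lie.ChevalleyDatum
open Cfsg.Agent.ChevalleyStructure.CoxeterGeom Cfsg.Agent.ChevalleyStructure.CoxeterGeomTypes Cfsg.Agent.Tits.Roots
open Cfsg.Agent.Nodes.RGDChev
open Cfsg.Agent.H378.AdjE8 (Am hA)
open Cfsg.Agent.H413.E8.Lat

universe u

/-! ### the Cartan form -/

/-- the Cartan form -/
def bv (x y : Fin 8 → ℤ) : ℤ := ∑ i, x i * ∑ j, Am i j * y j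

/-- the Cartan form -/
def bf : (Fin 8 → ℤ) →ₗ[ℤ] (Fin 8 → ℤ) →ₗ[ℤ] ℤ :=
  LinearMap.mk₂ ℤ bv
    (fun x x' y => by
      simp only [bv, Pi.add_apply, add_mul, Finset.sum_add_distrib])
    (fun c x y => by
      simp only [bv, Pi.smul_apply, smul_eq_mul, Finset.mul_sum]
      refine Finset.sum_congr rfl fun i _ => Finset.sum_congr rfl fun j _ => by ring)
    (fun x y y' => by
      simp only [bv, Pi.add_apply, mul_add, Finset.sum_add_distrib])
    (fun c x y => by
      simp only [bv, Pi.smul_apply, smul_eq_mul, Finset.mul_sum]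
      refine Finset.sum_congr rfl fun i _ => Finset.sum_congr rfl fun j _ => by ring)

theorem bf_apply (x y : Fin 8 → ℤ) : bf x y = ∑ i, x i * ∑ j, Am i j * y j := rfl

theorem Am_symm : ∀ i j, Am i j = Am j i := by decide +kernel

theorem bf_symm (x y : Fin 8 → ℤ) : bf x y = bf y x := by
  rw [bf_apply, bf_apply]
  simp only [Finset.mul_sum]
  rw [Finset.sum_comm]
  refine Finset.sum_congr rfl fun i _ => Finset.sum_congr rfl fun j _ => ?_
  rw [Am_symm j i]
  ring

theorem bf_even (x : Fin 8 → ℤ) : 2 ∣ bf x x := by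
  refine ⟨x 0 ^ 2 + x 1 ^ 2 + x 2 ^ 2 + x 3 ^ 2 + x 4 ^ 2 + x 5 ^ 2 + x 6 ^ 2 + x 7 ^ 2 - x 0 * x 2 - x 1 * x 3 -
    x 2 * x 3 - x 3 * x 4 - x 4 * x 5 - x 5 * x 6 - x 6 * x 7, ?_⟩
  rw [bf_apply]
  simp only [Fin.sum_univ_eight, Am]
  simp
  ring

/-- the inverse of the Cartan matrix -/
def IB : Fin 8 → Fin 8 → ℤ := ![![4, 5, 7, 10, 8, 6, 4, 2], ![5, 8, 10, 15, 12, 9, 6, 3],
  ![7, 10, 14, 20, 16, 12, 8, 4], ![10, 15, 20, 30, 24, 18, 12, 6], ![8, 12, 16, 24, 20, 15, 10, 5],
  ![6, 9, 12, 18, 15, 12, 8, 4], ![4, 6, 8, 12, 10, 8, 6, 3], ![2, 3, 4, 6, 5, 4, 3, 2]]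

theorem IB_eq : ∀ i k, ∑ j, Am i j * IB j k = if i = k then 1 else 0 := by decide +kernel

theorem bf_IB (x : Fin 8 → ℤ) (k : Fin 8) : bf x (fun j => IB j k) = x k := by
  rw [bf_apply]
  simp only [IB_eq]
  simp

theorem bf_uni (x : Fin 8 → ℤ) (h : ∀ y, 2 ∣ bf x y) : ∃ z, x = (2 : ℤ) • z := by
  refine ⟨fun k => x k / 2, ?_⟩
  funext k
  have h1 := h (fun j => IB j k)
  rw [bf_IB] at h1
  rw [Pi.smul_apply, smul_eq_mul]
  exact (Int.mul_ediv_cancel' h1).symm

theorem fin_div (x : Fin 8 → ℤ) (h : ∀ n : ℕ, ∃ z, x = (2 ^ n : ℤ) • z) : x = 0 := by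
  funext k
  by_contra hk
  have hk0 : 0 < (x k).natAbs := Int.natAbs_pos.2 hk
  obtain ⟨z, hz⟩ := h (x k).natAbs
  have h1 : ((2 : ℤ) ^ (x k).natAbs) ∣ x k := ⟨z k, by
    conv_lhs => rw [hz]
    rw [Pi.smul_apply, smul_eq_mul]⟩
  have h2 : (2 : ℕ) ^ (x k).natAbs ∣ (x k).natAbs := by
    have h3 := Int.natAbs_dvd_natAbs.2 h1
    rwa [Int.natAbs_pow] at h3
  exact absurd (Nat.le_of_dvd hk0 h2) (not_le.2 Nat.lt_two_pow_self)

theorem tors (x : Fin 8 → ℤ) (h : (2 : ℤ) • x = 0) : x = 0 := by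
  funext k
  have h1 := congrFun h k
  rw [Pi.smul_apply, smul_eq_mul, Pi.zero_apply] at h1
  rw [Pi.zero_apply]
  omega

section Weyl

variable {W : Type*} [Group W] (cs : CoxeterSystem CoxeterMatrix.E₈ W) (h : IsCartan CoxeterMatrix.E₈ (cartanOf chevE8 8))

theorem bf_sr_right (x : Fin 8 → ℤ) (i : Fin 8) : bf x (sr i) = pairing (cartanOf chevE8 8) i x := by
  rw [bf_apply]
  unfold pairing sr
  refine Finset.sum_congr rfl fun k _ => ?_
  rw [Finset.sum_eq_single i]
  · rw [Pi.single_eq_same, mul_one, ← hA, Am_symm k i, mul_comm]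
  · intro j _ hj
    rw [Pi.single_eq_of_ne hj, mul_zero]
  · intro hi
    exact absurd (Finset.mem_univ i) hi

theorem bf_sr_left (x : Fin 8 → ℤ) (i : Fin 8) : bf (sr i) x = pairing (cartanOf chevE8 8) i x := by
  rw [bf_symm, bf_sr_right]

theorem bf_sr_self (i : Fin 8) : bf (sr i) (sr i) = 2 := by
  rw [bf_sr_right]
  unfold pairing sr
  rw [Finset.sum_eq_single i]
  · rw [Pi.single_eq_same, mul_one, ← hA]
    revert i
    decide +kernel
  · intro j _ hj
    rw [Pi.single_eq_of_ne hj, mul_zero]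
  · intro hi
    exact absurd (Finset.mem_univ i) hi

theorem bf_simple (i : Fin 8) (x y : Fin 8 → ℤ) :
    bf (rep cs h (cs.simple i) x) (rep cs h (cs.simple i) y) = bf x y := by
  rw [rep_simple_eq, rep_simple_eq]
  simp only [map_sub, map_smul, LinearMap.sub_apply, LinearMap.smul_apply, smul_eq_mul, bf_sr_right x, bf_sr_left y,
    bf_sr_self]
  ring

theorem bf_rep (w : W) (x y : Fin 8 → ℤ) : bf (rep cs h w x) (rep cs h w y) = bf x y := by
  induction w using cs.simple_induction_left generalizing x y with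
  | one => rw [map_one, Module.End.one_apply, Module.End.one_apply]
  | mul_simple_left w i ih => rw [rep_mul_apply, rep_mul_apply, bf_simple, ih]

end Weyl

/-! ### Weyl group elements -/

theorem cyc_facts {m : ℕ} (hm : m = 7 ∨ m = 9) : ∃ a b : ℤ[X], cyclotomic m ℤ * b + (X ^ 2 + 1) * a = 1 := by
  rcases hm with rfl | rfl
  · have h7 : cyclotomic 7 ℤ = X ^ 6 + X ^ 5 + X ^ 4 + X ^ 3 + X ^ 2 + X + 1 := by
      have : Fact (Nat.Prime 7) := ⟨by norm_num⟩
      rw [cyclotomic_prime]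
      simp only [Finset.sum_range_succ, Finset.sum_range_zero]
      ring
    refine ⟨(X + 1) * (X ^ 4 + 1), -X, ?_⟩
    rw [h7]
    ring
  · have h9 : cyclotomic 9 ℤ = X ^ 6 + X ^ 3 + 1 := by
      have h : (9 : ℕ) = 3 ^ (1 + 1) := by norm_num
      rw [h, cyclotomic_prime_pow_eq_geom_sum Nat.prime_three]
      simp only [Finset.sum_range_succ, Finset.sum_range_zero]
      ring
    refine ⟨-(X ^ 5 - X ^ 3 + X ^ 2 + X - 1), X, ?_⟩
    rw [h9]
    ring

theorem tot {m : ℕ} (hm : m = 7 ∨ m = 9) : m.totient = 6 := by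
  rcases hm with rfl | rfl <;> decide

/-- **`Φ₄(w) Φ_m(w) = 0` implies `Φ₄(w) = 0` or `Φ_m(w) = 0`.** -/
theorem no_cyc {W : Type*} [Group W] (cs : CoxeterSystem CoxeterMatrix.E₈ W)
    (h : IsCartan CoxeterMatrix.E₈ (cartanOf chevE8 8)) {m : ℕ} (hm : m = 7 ∨ m = 9) (w : W)
    (hw : aeval (rep cs h w) (cyclotomic 4 ℤ * cyclotomic m ℤ) = 0) :
    aeval (rep cs h w) (cyclotomic 4 ℤ) = 0 ∨ aeval (rep cs h w) (cyclotomic m ℤ) = 0 := by
  obtain ⟨T, hT⟩ : ∃ T, T = rep cs h w := ⟨_, rfl⟩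
  rw [← hT] at hw ⊢
  by_cases h4 : aeval T (cyclotomic 4 ℤ) = 0
  · exact Or.inl h4
  right
  obtain ⟨x, hx⟩ : ∃ x, aeval T (cyclotomic 4 ℤ) x ≠ 0 := by
    by_contra hcon
    push Not at hcon
    exact h4 (LinearMap.ext hcon)
  set u := aeval T (cyclotomic 4 ℤ) x with hu
  have hu' : aeval T (cyclotomic m ℤ) u = 0 := by
    rw [hu, ← Module.End.mul_apply, ← map_mul, mul_comm, hw, LinearMap.zero_apply]
  obtain ⟨a, b, hab⟩ := cyc_facts hm
  have htot := tot hm
  have hker : ∀ v, T (T v) = -v → v = 0 := by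
    intro v hv
    refine ker_eq_zero (B := bf) (T := T) bf_symm (fun x y => by rw [hT]; exact bf_rep cs h w x y) bf_even bf_uni
      fin_div tors hab (by rw [← cyc4]; exact hw) ?_ hv
    exact fun v y hv hy hv0 => rank_le (m := m) (by omega) (by omega) (by omega) hx hu' v y hv hy hv0
  refine LinearMap.ext fun y => ?_
  rw [LinearMap.zero_apply]
  apply hker
  have h5 : aeval T (cyclotomic 4 ℤ) (aeval T (cyclotomic m ℤ) y) = 0 := by
    rw [← Module.End.mul_apply, ← map_mul, hw, LinearMap.zero_apply]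
  rw [cyc4, map_add, map_pow, aeval_X, map_one, LinearMap.add_apply, pow_two, Module.End.mul_apply,
    Module.End.one_apply] at h5
  exact eq_neg_of_add_eq_zero_left h5

/-! ### the finite group -/

open Cfsg.Agent.H378.ExcAdj
open Cfsg.Agent.H371.Core (od_facts)

theorem e8T : IsType chevE8 8 CoxeterMatrix.E₈ := by simp

theorem finW : Finite CoxeterMatrix.E₈.Group := by
  have hW : Nat.card CoxeterMatrix.E₈.Group = 696729600 :=
    Cfsg.Agent.S1093.result (⟨8, CoxeterMatrix.E₈⟩, 696729600) (by simp)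
  exact Nat.finite_of_card_ne_zero (by rw [hW]; norm_num)

/-- **No elements of order `5 r`.** -/
theorem ne_order {F : Type u} [Field F] [Fintype F] {r m : ℕ} (hr : r.Prime) (hm : m = 7 ∨ m = 9)
    (h5 : od (Fintype.card F) 5 = 4) (hrm : od (Fintype.card F) r = m) (x : ↥(chevE8.group F)) :
    orderOf x ≠ 5 * r := by
  intro hx
  let cs : CoxeterSystem CoxeterMatrix.E₈ CoxeterMatrix.E₈.Group := CoxeterMatrix.E₈.toCoxeterSystem
  have := finW
  obtain ⟨p, hpc⟩ := CharP.exists F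
  have hpf : Fact p.Prime := ⟨CharP.char_is_prime F p⟩
  obtain ⟨n, -, hn⟩ := FiniteField.card F p
  have hpq : p ∣ Fintype.card F := by rw [hn]; exact dvd_pow_self p n.ne_zero
  have hm0 : m ≠ 0 := by omega
  obtain ⟨h5q, -⟩ := od_facts Nat.prime_five (by norm_num) h5
  obtain ⟨hrq, hmr⟩ := od_facts hr hm0 hrm
  have hp5 : p ≠ 5 := fun h => h5q (h ▸ hpq)
  have hpr : p ≠ r := fun h => hrq (h ▸ hpq)
  have hcop : (orderOf x).Coprime p := by
    rw [hx]
    exact Nat.Coprime.mul_left ((Nat.coprime_primes Nat.prime_five hpf.out).2 hp5.symm)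
      ((Nat.coprime_primes hr hpf.out).2 hpr.symm)
  obtain ⟨w, hw⟩ := H92.TorExp.exp_untw e8T cs hcop
  rw [hx] at hw
  -- the radical of the characteristic polynomial
  obtain ⟨T, hT⟩ : ∃ T, T = rep cs e8T.isCartan w := ⟨_, rfl⟩
  rw [← hT] at hw
  set A : Matrix (Fin 8) (Fin 8) ℤ := LinearMap.toMatrixAlgEquiv' (R := ℤ) (n := Fin 8) T with hAdef
  have hAn : A ^ (Nat.card CoxeterMatrix.E₈.Group) = 1 := by
    rw [hAdef, hT, ← map_pow, ← map_pow, pow_card_eq_one', map_one, map_one]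
  obtain ⟨S, h1, h2, h3⟩ := H92.TorExp.exists_set Nat.card_pos hAn
  have h4 : aeval T (∏ d ∈ S, cyclotomic d ℤ) = 0 := by
    have h6 : (LinearMap.toMatrixAlgEquiv' (R := ℤ) (n := Fin 8)) (aeval T (∏ d ∈ S, cyclotomic d ℤ)) = 0 := by
      rw [← h3, hAdef]
      exact (Polynomial.aeval_algHom_apply (LinearMap.toMatrixAlgEquiv' (R := ℤ) (n := Fin 8)).toAlgHom _ _).symm
    exact (map_eq_zero_iff _ (LinearMap.toMatrixAlgEquiv' (R := ℤ) (n := Fin 8)).injective).1 h6
  have h6 := hw _ h4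
  rw [eval_prod] at h6
  have h5Z : Prime ((5 : ℕ) : ℤ) := Nat.prime_iff_prime_int.1 Nat.prime_five
  have hrZ : Prime ((r : ℕ) : ℤ) := Nat.prime_iff_prime_int.1 hr
  have htot := tot hm
  have hle : ∀ d ∈ S, d.totient ≤ 8 := fun d hd =>
    (Finset.single_le_sum (f := fun d => d.totient) (fun _ _ => Nat.zero_le _) hd).trans h2
  -- the factor divisible by `r`
  obtain ⟨d, hdS, hd⟩ := (hrZ.dvd_finsetProd_iff _).1 ((Int.natCast_dvd_natCast.2 (Dvd.intro_left 5 rfl)).trans h6)
  have hrd : ¬ r ∣ d := by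
    intro h
    have h7 := H92.TorExpE8.sub_one_le hr (h1 d hdS) h
    have h8 := hle d hdS
    have h9 : m ∣ r - 1 := by
      have := Fact.mk hr
      rw [← hrm]
      exact ZMod.orderOf_dvd_card_sub_one (fun h0 => hrq ((ZMod.natCast_eq_zero_iff _ r).1 h0))
    have hr2 := hr.two_le
    rcases hm with rfl | rfl
    · have h10 : r = 8 := by omega
      rw [h10] at hr
      exact absurd hr (by norm_num)
    · omega
  have hdm : d = m := by
    rw [← hrm]
    exact (H92.TorExpE8.orderOf_of_dvd hr hrd hd).symm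
  subst hdm
  -- the factor divisible by 5
  obtain ⟨e, heS, he⟩ := (h5Z.dvd_finsetProd_iff _).1 ((Int.natCast_dvd_natCast.2 (Dvd.intro r rfl)).trans h6)
  have hed : e ≠ d := by
    rintro rfl
    have h7 := H92.TorExpE8.orderOf_of_dvd Nat.prime_five (by omega) he
    have h8 : od (Fintype.card F) 5 = e := h7
    omega
  have hpair : d.totient + e.totient ≤ 8 := by
    have h7 : ({d, e} : Finset ℕ) ⊆ S := by
      intro x hx
      rw [Finset.mem_insert, Finset.mem_singleton] at hx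
      rcases hx with rfl | rfl <;> assumption
    have h8 := Finset.sum_le_sum_of_subset (f := fun d => d.totient) h7
    rw [Finset.sum_pair hed.symm] at h8
    exact h8.trans h2
  have h5e : ¬ 5 ∣ e := by
    intro h
    have h7 := H92.TorExpE8.sub_one_le Nat.prime_five (h1 e heS) h
    omega
  have he4 : e = 4 := by
    have h7 := H92.TorExpE8.orderOf_of_dvd Nat.prime_five h5e he
    have h8 : od (Fintype.card F) 5 = e := h7
    omega
  subst he4
  have h44 : Nat.totient 4 = 2 := by decide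
  have hS : S = {4, d} := by
    refine (Finset.Subset.antisymm ?_ ?_)
    · intro f hf
      by_contra hcon
      rw [Finset.mem_insert, Finset.mem_singleton, not_or] at hcon
      have h7 : ({f, 4, d} : Finset ℕ) ⊆ S := by
        intro x hx
        simp only [Finset.mem_insert, Finset.mem_singleton] at hx
        rcases hx with rfl | rfl | rfl <;> assumption
      have h8 := Finset.sum_le_sum_of_subset (f := fun d => d.totient) h7
      rw [Finset.sum_insert (by
        rw [Finset.mem_insert, Finset.mem_singleton, not_or]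
        exact hcon), Finset.sum_pair hed] at h8
      have h9 := Nat.totient_pos.2 (h1 f hf)
      have h10 := h8.trans h2
      omega
    · intro x hx
      rw [Finset.mem_insert, Finset.mem_singleton] at hx
      rcases hx with rfl | rfl <;> assumption
  rw [hS, Finset.prod_pair hed] at h4
  rcases no_cyc cs e8T.isCartan hm w (by rw [← hT]; exact h4) with h7 | h7
  · rw [← hT] at h7
    have h8 := (Int.natCast_dvd_natCast.2 (Dvd.intro_left 5 rfl)).trans (hw _ h7)
    have h9 := H92.TorExpE8.orderOf_of_dvd hr (fun h => by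
      have := Nat.le_of_dvd (by norm_num) h
      omega) h8
    have h10 : od (Fintype.card F) r = 4 := h9
    omega
  · rw [← hT] at h7
    have h8 := (Int.natCast_dvd_natCast.2 (Dvd.intro r rfl)).trans (hw _ h7)
    have h9 := H92.TorExpE8.orderOf_of_dvd Nat.prime_five (by omega) h8
    have h10 : od (Fintype.card F) 5 = d := h9
    omega

end Cfsg.Agent.H413.E8.Non5
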