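import Cfsg.Agent.H413.E8.TabTwo
import Cfsg.Agent.H413.E8.Non5
import Cfsg.Agent.H168.ExcAdj
import Cfsg.Agent.H378.ExcAdj
import Cfsg.Agent.H991.PglAdj3

/-!
# Neighbours of a prime divisor of `q (q² - 1)` in the prime graph of `E₈(q)` (helper413, S3636)

`adj` : an odd prime `s ∣ q (q² - 1)` is adjacent to all primes except those modulo which `q` has order 15, 20, 24, 30.
-/

set_option autoImplicit false
set_option linter.unusedSectionVars false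

namespace Cfsg.Agent.H413.E8.AdjS

open CoxeterSystem Subgroup Cfsg Cfsg.Lie Cfsg.Lie.ChevalleyDatum
open Cfsg.Agent.ChevalleyStructure Cfsg.Agent.ChevalleyStructure.Elts Cfsg.Agent.ChevalleyStructure.CoxeterGeom
  Cfsg.Agent.ChevalleyStructure.CoxeterGeomTypes Cfsg.Agent.ChevalleyStructure.NPerm
open Cfsg.Agent.Tits.Roots Cfsg.Agent.Tits.Core Cfsg.Agent.Nodes.Reps Cfsg.Agent.Nodes.BNOf
  Cfsg.Agent.Nodes.RGDChev Cfsg.Agent.Nodes.Bruhat
open Cfsg.Agent.KFacts.RgdField Cfsg.Agent.KFacts.RgdChevCoord Cfsg.Agent.BpExc.TorCent Cfsg.Agent.BpExc.TorChev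
open Cfsg.Agent.BpExc.Tow Cfsg.Agent.BpExc.TowChev Cfsg.Agent.BpExc.FamExt Cfsg.Agent.BpExc.FamUntw
  Cfsg.Agent.BpExc.FamInst Cfsg.Agent.BpExc.LangFr Cfsg.Agent.BpExc.FamField Cfsg.Agent.BpExc.RowsUntw
open Cfsg.Agent.H378 Cfsg.Agent.H378.RankOne Cfsg.Agent.H378.SmallTor Cfsg.Agent.H378.RootTor
open Cfsg.Agent.H378.TorDual Cfsg.Agent.H378.AdjTab Cfsg.Agent.H378.CycTab Cfsg.Agent.H378.ExcAdj
open Cfsg.Agent.H493 Cfsg.Agent.H493.PGTorus Cfsg.Agent.H129.WData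
open Cfsg.Agent.H413.E8.Non5 (finW)
open Cfsg.Agent.H413.E8

universe u

variable {F : Type u} [Field F] [Finite F]

/-- a torus element of odd prime order `ℓ ∣ q - 1` commuting with a root element -/
theorem split_char {ℓ : ℕ} (hℓ : ℓ.Prime) (hℓ2 : ℓ ≠ 2) (hℓq : ℓ ∣ Nat.card F - 1) {p : ℕ} [Fact p.Prime] [CharP F p] :
    ∃ x y : ↥(chevE8.group F), orderOf x = ℓ ∧ orderOf y = p ∧ Commute x y := by
  let cs : CoxeterSystem CoxeterMatrix.E₈ CoxeterMatrix.E₈.Group := CoxeterMatrix.E₈.toCoxeterSystem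
  have := finW
  have hk := locFin_of_finite F
  have C := coordsL e8T cs hk p
  have h := AdjE8.orth
  have hr : IsRoot cs e8T.isCartan (vec chevE8 8 0) := isRoot_vec e8T cs h.hr
  have hu : xc e8T (vec chevE8 8 0) (1 : F) ∈ XX chevE8 8 F (vec chevE8 8 0) := (RankOne.mem_XX e8T h.hr).2 ⟨1, rfl⟩
  have hu1 : xc e8T (vec chevE8 8 0) (1 : F) ≠ 1 := (C.coord _ hr).ne_one one_ne_zero
  obtain ⟨a, ha, ho⟩ := H991.PglAdj3.exists_hc e8T hℓ hℓ2 hℓq (j := (0 : Fin 8)) (F := F)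
  have h2 := (C.coord _ hr).act _ (hc_mem e8T (0 : Fin 8) ha) 1
  rw [ch_hc e8T (0 : Fin 8) ha h.hr, h.zero, zpow_zero, one_mul] at h2
  exact ⟨_, _, ho, orderOf_eq_prime (X_pow e8T cs p hr hu) hu1, mul_inv_eq_iff_eq_mul.1 h2⟩

section

variable {r s : ℕ} (hr : r.Prime) (hs : s.Prime) (hrs : r ≠ s)

include hr hs hrs

/-- two primes through a torus -/
theorem tor {L : List (Fin 8 × Mat 8)} (hL : ChainOK AdjE8.Am L)
    {f : ℕ} {c : Fin (f + 1) → ℤ} {V : Fin (f + 1) → Fin 8 → ℤ} {U : Fin 8 → ℤ} (h : EigOK (hd L) c V U)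
    {f' : ℕ} {c' : Fin (f' + 1) → ℤ} {V' : Fin (f' + 1) → Fin 8 → ℤ} {U' : Fin 8 → ℤ} (h' : EigOK (hd L) c' V' U')
    (h1 : (r : ℤ) ∣ pv c (Nat.card F : ℕ)) (h2 : (s : ℤ) ∣ pv c' (Nat.card F : ℕ)) :
    PG.Rel ↥(chevE8.group F) r s := by
  have := finW
  exact H168.ExcAdj.rel_of_eig e8T CoxeterMatrix.E₈.toCoxeterSystem inv_E8 one_ne_zero
    (chain_rep e8T CoxeterMatrix.E₈.toCoxeterSystem AdjE8.hA hL) h h' hr hs hrs hr.not_dvd_one hs.not_dvd_one h1 h2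

/-- through a row -/
theorem row_one {L : List (Fin 8 × Mat 8)} {f : ℕ} {c : Fin (f + 1) → ℤ} {V : Fin (f + 1) → Fin 8 → ℤ} {U : Fin 8 → ℤ}
    (h : RowOK AdjE8.Am L (vec chevE8 8 239) c V U)
    (h1 : (r : ℤ) ∣ pv c (Nat.card F : ℕ)) (h2 : (s : ℤ) ∣ pv c1 (Nat.card F : ℕ)) :
    PG.Rel ↥(chevE8.group F) r s := by
  obtain ⟨a, b, c⟩ := h
  rw [AdjE8.vec_hi] at b
  exact tor hr hs hrs a c (TabTwo.one b) h1 h2

theorem row_char {L : List (Fin 8 × Mat 8)} {f : ℕ} {c : Fin (f + 1) → ℤ} {V : Fin (f + 1) → Fin 8 → ℤ} {U : Fin 8 → ℤ}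
    (h : RowOK AdjE8.Am L (vec chevE8 8 239) c V U) (hr1 : ¬ r ∣ Nat.card F - 1)
    (h1 : (r : ℤ) ∣ pv c (Nat.card F : ℕ)) (h2 : s ∣ Nat.card F) :
    PG.Rel ↥(chevE8.group F) r s := by
  have := finW
  obtain ⟨p, _, _, n, hn0, hn⟩ := exists_charP F
  have hsp : s = p := by
    rw [hn] at h2
    exact (Nat.prime_dvd_prime_iff_eq hs Fact.out).1 (hs.dvd_of_dvd_pow h2)
  subst hsp
  obtain ⟨x, u, -, hx, hu, -, hc, -⟩ := exists_comm_row e8T CoxeterMatrix.E₈.toCoxeterSystem inv_E8 one_ne_zero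
    AdjE8.hA AdjE8.lt_nroots h hr hr1 h1 (p := s)
  exact PG.Rel.of_commute hr hs hrs hc (by rw [hx]) (by rw [hu])

theorem split_p (hr2 : r ≠ 2) (h1 : r ∣ Nat.card F - 1) (h2 : s ∣ Nat.card F) :
    PG.Rel ↥(chevE8.group F) r s := by
  obtain ⟨p, _, _, n, hn0, hn⟩ := exists_charP F
  have hsp : s = p := by
    rw [hn] at h2
    exact (Nat.prime_dvd_prime_iff_eq hs Fact.out).1 (hs.dvd_of_dvd_pow h2)
  subst hsp
  obtain ⟨x, u, hx, hu, hc⟩ := split_char (F := F) hr hr2 h1 (p := s)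
  exact PG.Rel.of_commute hr hs hrs hc (by rw [hx]) (by rw [hu])

/-- **An odd prime `s ∣ q (q² - 1)` is adjacent to all odd primes of the classes 0, 1, ..., 14, 18.** -/
theorem adj_odd (hr2 : r ≠ 2) (hs2 : s ≠ 2) (hsq : s ∣ Nat.card F ∨ s ∣ Nat.card F - 1 ∨ s ∣ Nat.card F + 1)
    (hd : r ∣ Nat.card ↥(chevE8.group F)) :
    PG.Rel ↥(chevE8.group F) r s ∨ od (Nat.card F) r = 15 ∨ od (Nat.card F) r = 20 ∨ od (Nat.card F) r = 24 ∨
      od (Nat.card F) r = 30 := by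
  have hq : 1 ≤ Nat.card F := Nat.card_pos
  have hn1 : ∀ {m : ℕ}, m ≠ 1 → od (Nat.card F) r = m → ¬ r ∣ Nat.card F - 1 := by
    intro m hm h3 h4
    have h5 : od (Nat.card F) r ∣ 1 := od_dvd hq (by rw [pow_one]; exact h4)
    rw [h3] at h5
    exact hm (Nat.dvd_one.1 h5)
  have hc1 : ∀ {t : ℕ}, t ∣ Nat.card F - 1 → (t : ℤ) ∣ pv c1 (Nat.card F : ℕ) := by
    intro t ht
    rw [pv1]
    have h1 : ((Nat.card F - 1 : ℕ) : ℤ) = (Nat.card F : ℤ) - 1 := by rw [Nat.cast_sub hq]; rfl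
    rw [← h1]
    exact Int.natCast_dvd_natCast.2 ht
  have hc2 : ∀ {t : ℕ}, t ∣ Nat.card F + 1 → (t : ℤ) ∣ pv c2 (Nat.card F : ℕ) := by
    intro t ht
    rw [pv2]
    exact_mod_cast Int.natCast_dvd_natCast.2 ht
  have hs1 : s ∣ Nat.card F + 1 → ¬ s ∣ Nat.card F - 1 := by
    intro h1 h2
    have h3 := Nat.dvd_sub h1 h2
    have h4 : Nat.card F + 1 - (Nat.card F - 1) = 2 := by omega
    rw [h4] at h3
    exact hs2 ((Nat.prime_dvd_prime_iff_eq hs Nat.prime_two).1 h3)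
  rcases od_E8 hr hd with h | h | h | h | h | h | h | h | h | h | h | h | h | h | h | h | h | h
  · -- the characteristic
    left
    rcases hsq with h1 | h1 | h1
    · exfalso
      obtain ⟨p, _, _, n, hn0, hn⟩ := exists_charP F
      rw [hn] at h h1
      apply hrs
      rw [(Nat.prime_dvd_prime_iff_eq hr Fact.out).1 (hr.dvd_of_dvd_pow h),
        (Nat.prime_dvd_prime_iff_eq hs Fact.out).1 (hs.dvd_of_dvd_pow h1)]
    · exact (split_p hs hr hrs.symm hs2 h1 h).symm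
    · exact (row_char hs hr hrs.symm AdjE8.row2 (hs1 h1) (hc2 h1) h).symm
  · -- class 1
    left
    have hr1 := dvd_of_od_one hq h
    rcases hsq with h1 | h1 | h1
    · exact split_p hr hs hrs hr2 hr1 h1
    · obtain ⟨a, b, c⟩ := AdjE8.row2
      rw [AdjE8.vec_hi] at b
      exact tor hr hs hrs a (TabTwo.one b) (TabTwo.one b) (hc1 hr1) (hc1 h1)
    · exact (row_one hs hr hrs.symm AdjE8.row2 (hc2 h1) (hc1 hr1)).symm
  · left
    rcases hsq with h1 | h1 | h1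
    · exact row_char hr hs hrs AdjE8.row2 (hn1 (by decide) h) (dvd2 hr h) h1
    · exact row_one hr hs hrs AdjE8.row2 (dvd2 hr h) (hc1 h1)
    · obtain ⟨a, b, c⟩ := AdjE8.row2
      exact tor hr hs hrs a c c (dvd2 hr h) (hc2 h1)
  · left
    rcases hsq with h1 | h1 | h1
    · exact row_char hr hs hrs AdjE8.row3 (hn1 (by decide) h) (dvd3 hr h) h1
    · exact row_one hr hs hrs AdjE8.row3 (dvd3 hr h) (hc1 h1)
    · exact tor hr hs hrs TabTwo.chain3 TabTwo.eig3_3 TabTwo.eig3_2 (dvd3 hr h) (hc2 h1)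
  · left
    rcases hsq with h1 | h1 | h1
    · exact row_char hr hs hrs AdjE8.row4 (hn1 (by decide) h) (dvd4 hr h) h1
    · exact row_one hr hs hrs AdjE8.row4 (dvd4 hr h) (hc1 h1)
    · exact tor hr hs hrs TabTwo.chain4 TabTwo.eig4_4 TabTwo.eig4_2 (dvd4 hr h) (hc2 h1)
  · left
    rcases hsq with h1 | h1 | h1
    · exact row_char hr hs hrs AdjE8.row5 (hn1 (by decide) h) (dvd5 hr h) h1
    · exact row_one hr hs hrs AdjE8.row5 (dvd5 hr h) (hc1 h1)
    · exact tor hr hs hrs TabTwo.chain5 TabTwo.eig5_5 TabTwo.eig5_2 (dvd5 hr h) (hc2 h1)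
  · left
    rcases hsq with h1 | h1 | h1
    · exact row_char hr hs hrs AdjE8.row6 (hn1 (by decide) h) (dvd6 hr h) h1
    · exact row_one hr hs hrs AdjE8.row6 (dvd6 hr h) (hc1 h1)
    · exact tor hr hs hrs TabTwo.chain6 TabTwo.eig6_6 TabTwo.eig6_2 (dvd6 hr h) (hc2 h1)
  · left
    rcases hsq with h1 | h1 | h1
    · exact row_char hr hs hrs AdjE8.row7 (hn1 (by decide) h) (dvd7 hr h) h1
    · exact row_one hr hs hrs AdjE8.row7 (dvd7 hr h) (hc1 h1)
    · exact tor hr hs hrs TabTwo.chain7 TabTwo.eig7_7 TabTwo.eig7_2 (dvd7 hr h) (hc2 h1)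
  · left
    rcases hsq with h1 | h1 | h1
    · exact row_char hr hs hrs AdjE8.row8 (hn1 (by decide) h) (dvd8 hr h) h1
    · exact row_one hr hs hrs AdjE8.row8 (dvd8 hr h) (hc1 h1)
    · exact tor hr hs hrs TabTwo.chain8 TabTwo.eig8_8 TabTwo.eig8_2 (dvd8 hr h) (hc2 h1)
  · left
    rcases hsq with h1 | h1 | h1
    · exact row_char hr hs hrs AdjE8.row9 (hn1 (by decide) h) (dvd9 hr h) h1
    · exact row_one hr hs hrs AdjE8.row9 (dvd9 hr h) (hc1 h1)
    · exact tor hr hs hrs TabTwo.chain9 TabTwo.eig9_9 TabTwo.eig9_2 (dvd9 hr h) (hc2 h1)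
  · left
    rcases hsq with h1 | h1 | h1
    · exact row_char hr hs hrs AdjE8.row10 (hn1 (by decide) h) (dvd10 hr h) h1
    · exact row_one hr hs hrs AdjE8.row10 (dvd10 hr h) (hc1 h1)
    · exact tor hr hs hrs TabTwo.chain10 TabTwo.eig10_10 TabTwo.eig10_2 (dvd10 hr h) (hc2 h1)
  · left
    rcases hsq with h1 | h1 | h1
    · exact row_char hr hs hrs AdjE8.row12 (hn1 (by decide) h) (dvd12 hr h) h1
    · exact row_one hr hs hrs AdjE8.row12 (dvd12 hr h) (hc1 h1)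
    · exact tor hr hs hrs TabTwo.chain12 TabTwo.eig12_12 TabTwo.eig12_2 (dvd12 hr h) (hc2 h1)
  · left
    rcases hsq with h1 | h1 | h1
    · exact row_char hr hs hrs AdjE8.row14 (hn1 (by decide) h) (dvd14 hr h) h1
    · exact row_one hr hs hrs AdjE8.row14 (dvd14 hr h) (hc1 h1)
    · exact tor hr hs hrs TabTwo.chain14 TabTwo.eig14_14 TabTwo.eig14_2 (dvd14 hr h) (hc2 h1)
  · exact Or.inr (Or.inl h)
  · left
    rcases hsq with h1 | h1 | h1
    · exact row_char hr hs hrs AdjE8.row18 (hn1 (by decide) h) (dvd18 hr h) h1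
    · exact row_one hr hs hrs AdjE8.row18 (dvd18 hr h) (hc1 h1)
    · exact tor hr hs hrs TabTwo.chain18 TabTwo.eig18_18 TabTwo.eig18_2 (dvd18 hr h) (hc2 h1)
  · exact Or.inr (Or.inr (Or.inl h))
  · exact Or.inr (Or.inr (Or.inr (Or.inl h)))
  · exact Or.inr (Or.inr (Or.inr (Or.inr h)))

end

/-- the order of `q` modulo a prime divisor of `q (q² - 1)` -/
theorem od_le_two {s : ℕ} (hs : s.Prime) (hsq : s ∣ Nat.card F ∨ s ∣ Nat.card F - 1 ∨ s ∣ Nat.card F + 1) :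
    od (Nat.card F) s ≤ 2 := by
  have hq : 1 ≤ Nat.card F := Nat.card_pos
  have := Fact.mk hs
  rcases hsq with h | h | h
  · have h0 : ((Nat.card F : ℕ) : ZMod s) = 0 := (ZMod.natCast_eq_zero_iff _ s).2 h
    have h1 : od (Nat.card F) s = 0 := by
      show orderOf ((Nat.card F : ℕ) : ZMod s) = 0
      rw [h0, orderOf_eq_zero_iff']
      intro k hk h1
      rw [zero_pow hk.ne'] at h1
      exact zero_ne_one h1
    omega
  · exact (Nat.le_of_dvd one_pos (od_dvd hq (by rw [pow_one]; exact h))).trans one_le_two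
  · refine Nat.le_of_dvd two_pos (od_dvd hq (h.trans ⟨Nat.card F - 1, ?_⟩))
    obtain ⟨m, hm⟩ : ∃ m, Nat.card F = m + 1 := ⟨_, (Nat.sub_add_cancel hq).symm⟩
    rw [hm]
    have e : (m + 1) ^ 2 = (m + 1 + 1) * (m + 1 - 1) + 1 := by
      rw [Nat.add_sub_cancel]; ring
    rw [e, Nat.add_sub_cancel]

theorem dvd_card {s : ℕ} (hsq : s ∣ Nat.card F ∨ s ∣ Nat.card F - 1 ∨ s ∣ Nat.card F + 1) :
    s ∣ Nat.card ↥(chevE8.group F) := by
  have : Fintype F := Fintype.ofFinite F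
  have h := Cfsg.Agent.S1065.result (F := F) rfl
  rw [← Nat.card_eq_fintype_card] at h
  have hq : 1 ≤ Nat.card F := Nat.card_pos
  have h2 : s ∣ Nat.card F - 1 ∨ s ∣ Nat.card F + 1 → s ∣ Nat.card F ^ 2 - 1 := by
    intro h2
    obtain ⟨m, hm⟩ : ∃ m, Nat.card F = m + 1 := ⟨_, (Nat.sub_add_cancel hq).symm⟩
    rw [hm] at h2 ⊢
    have e : (m + 1) ^ 2 - 1 = (m + 1 + 1) * (m + 1 - 1) := by
      have e : (m + 1) ^ 2 = (m + 1 + 1) * (m + 1 - 1) + 1 := by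
        rw [Nat.add_sub_cancel]; ring
      rw [e, Nat.add_sub_cancel]
    rw [e]
    rcases h2 with h2 | h2
    · exact h2.mul_left _
    · exact h2.mul_right _
  rw [h]
  generalize Nat.card F = q at *
  rcases hsq with h1 | h1
  · have h3 : s ∣ q ^ 120 := dvd_pow h1 (by norm_num)
    exact (((((((h3.mul_right _).mul_right _).mul_right _).mul_right _).mul_right _).mul_right _).mul_right _).mul_right _
  · have h3 := h2 h1
    exact (((((((h3.mul_left _).mul_right _).mul_right _).mul_right _).mul_right _).mul_right _).mul_right _).mul_right _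

/-- **Neighbours of an odd prime divisor of `q (q² - 1)`.** -/
theorem adj {r s : ℕ} (hr : r.Prime) (hs : s.Prime) (hrs : r ≠ s) (hs2 : s ≠ 2)
    (hsq : s ∣ Nat.card F ∨ s ∣ Nat.card F - 1 ∨ s ∣ Nat.card F + 1)
    (hd : r ∣ Nat.card ↥(chevE8.group F)) :
    PG.Rel ↥(chevE8.group F) r s ∨ od (Nat.card F) r = 15 ∨ od (Nat.card F) r = 20 ∨ od (Nat.card F) r = 24 ∨
      od (Nat.card F) r = 30 := by
  by_cases hr2 : r = 2
  · subst hr2
    have h1 := od_le_two hs hsq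
    rcases adj_E8 F hs (dvd_card hsq) with h | ⟨-, -, -, x, y, hx, hy, hc⟩ | h
    · exact absurd h hs2
    · exact Or.inl (PG.Rel.of_commute hs hr hrs.symm hc (by rw [hx]) (by rw [hy])).symm
    · omega
  · exact adj_odd hr hs hrs hr2 hs2 hsq hd

end Cfsg.Agent.H413.E8.AdjS
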