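import Cfsg.Agent.H378.ExcAdj

/-!
# The combinatorics of the prime graph of `E₈(q)` (helper413, S3636)

`Facts R D q` lists the properties of the prime graph `R` (on the primes satisfying `D`) of `E₈(q)`; `Ctx` compares it
with the prime graph of a section `S = E₈(u)` of a group with the same graph.
-/

set_option autoImplicit false

namespace Cfsg.Agent.H413.E8.Comb

open Cfsg.Agent.H378.ExcAdj (od)

/-- the four classes of primes not adjacent to 3 -/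
def Cl (m : ℕ) : Prop := m = 15 ∨ m = 20 ∨ m = 24 ∨ m = 30

structure Facts (R : ℕ → ℕ → Prop) (D : ℕ → Prop) (q : ℕ) : Prop where
  ex : ∀ m, m = 7 ∨ m = 9 ∨ m = 15 ∨ m = 20 ∨ m = 24 ∨ m = 30 → ∃ r, r.Prime ∧ od q r = m ∧ D r
  dv : ∀ r, r.Prime → Cl (od q r) → D r
  symm : ∀ r s, R r s → R s r
  clique : ∀ r s, r.Prime → s.Prime → r ≠ s → Cl (od q r) → od q s = od q r → R r s
  nbr : ∀ r s, r.Prime → s.Prime → Cl (od q r) → R r s → od q s = od q r ∨ (od q r = 20 ∧ s = 5 ∧ od q 5 = 4)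
  five : ∀ r, r.Prime → od q 5 = 4 → od q r = 20 → R r 5
  adj : ∀ r s, r.Prime → (s = 3 ∨ s = 5 ∧ od q 5 ≠ 4) → r ≠ s → D r → R r s ∨ Cl (od q r)
  non5 : ∀ r, r.Prime → od q 5 = 4 → (od q r = 7 ∨ od q r = 9) → ¬ R r 5
  non79 : ∀ r s, r.Prime → s.Prime → od q r = 7 → od q s = 9 → ¬ R r s
  od3 : od q 3 ≤ 2
  od5 : od q 5 ≤ 4
  D3 : D 3
  D5 : D 5

structure Ctx (q u : ℕ) (R RS : ℕ → ℕ → Prop) (D DS K I : ℕ → Prop) : Prop where
  L : Facts R D q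
  S : Facts RS DS u
  RS : ∀ r s, RS r s → R r s
  D : ∀ r, r.Prime → D r → K r ∨ I r ∨ DS r
  K : ∀ r s, r.Prime → K r → (s = 3 ∨ s = 5 ∧ od u 5 ≠ 4) → r ≠ s → R r s
  I : ∀ r, r.Prime → I r → ∃ (u₀ : ℕ) (R₀ : ℕ → ℕ → Prop) (D₀ : ℕ → Prop), u = u₀ ^ r ∧ Facts R₀ D₀ u₀ ∧
    ∀ s, s.Prime → s ≠ r → D₀ s → R r s

theorem od_pow {u₀ r t m : ℕ} (h : od u₀ r = m) (hm : m ≠ 0) (ht : t.Prime) (htm : ¬ t ∣ m) : od (u₀ ^ t) r = m := by
  unfold od at h ⊢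
  rw [Nat.cast_pow, orderOf_pow' _ ht.ne_zero, h, Nat.Coprime.gcd_eq_one, Nat.div_one]
  exact ((Nat.Prime.coprime_iff_not_dvd ht).2 htm).symm

theorem pigeon {a b x y z : ℕ} (ha : Cl a) (hb : Cl b) (hx : Cl x) (hy : Cl y) (hz : Cl z) (h1 : x ≠ y) (h2 : x ≠ z)
    (h3 : y ≠ z) (h4 : a ≠ x) (h5 : a ≠ y) (h6 : a ≠ z) (h7 : b ≠ x) (h8 : b ≠ y) (h9 : b ≠ z) : a = b := by
  unfold Cl at *
  rcases hx with rfl | rfl | rfl | rfl <;> rcases hy with rfl | rfl | rfl | rfl <;>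
    first
      | exact (h1 rfl).elim
      | (rcases hz with rfl | rfl | rfl | rfl <;>
          first
            | exact (h2 rfl).elim
            | exact (h3 rfl).elim
            | omega)

namespace Ctx

variable {q u : ℕ} {R RS : ℕ → ℕ → Prop} {D DS K I : ℕ → Prop} (C : Ctx q u R RS D DS K I)

include C

/-- a prime not adjacent to `s = 3, 5` -/
theorem mem {r s : ℕ} (hr : r.Prime) (hs : s = 3 ∨ s = 5 ∧ od u 5 ≠ 4) (hrs : r ≠ s) (hD : D r) (hn : ¬ R r s) :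
    ¬ K r ∧ ¬ I r ∧ Cl (od u r) := by
  have hK : ¬ K r := fun h => hn (C.K r s hr h hs hrs)
  have hI : ¬ I r := by
    intro h
    obtain ⟨u₀, R₀, D₀, -, hF, h0⟩ := C.I r hr h
    rcases hs with rfl | ⟨rfl, -⟩
    · exact hn (h0 3 Nat.prime_three hrs.symm hF.D3)
    · exact hn (h0 5 Nat.prime_five hrs.symm hF.D5)
  refine ⟨hK, hI, ?_⟩
  rcases C.D r hr hD with h | h | h
  · exact (hK h).elim
  · exact (hI h).elim
  · rcases C.S.adj r s hr hs hrs h with h1 | h1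
    · exact (hn (C.RS _ _ h1)).elim
    · exact h1

theorem mem3 {r : ℕ} (hr : r.Prime) (h : Cl (od q r)) : ¬ K r ∧ ¬ I r ∧ Cl (od u r) := by
  have h3 := C.L.od3
  refine C.mem hr (Or.inl rfl) ?_ (C.L.dv r hr h) ?_
  · rintro rfl
    unfold Cl at h
    omega
  · intro hR
    have := C.L.nbr r 3 hr Nat.prime_three h hR
    unfold Cl at h
    omega

theorem inj {r s : ℕ} (hr : r.Prime) (hs : s.Prime) (h : Cl (od q r)) (h' : Cl (od q s)) (he : od u s = od u r) :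
    od q s = od q r := by
  by_cases hrs : r = s
  · rw [hrs]
  · rcases C.L.nbr r s hr hs h (C.RS _ _ (C.S.clique r s hr hs hrs (C.mem3 hr h).2.2 he)) with h1 | ⟨-, rfl, h1⟩
    · exact h1
    · unfold Cl at h'
      omega

theorem surj {m : ℕ} (hm : Cl m) : ∃ r, r.Prime ∧ Cl (od q r) ∧ od u r = m := by
  obtain ⟨r1, p1, h1, -⟩ := C.L.ex 15 (by omega)
  obtain ⟨r2, p2, h2, -⟩ := C.L.ex 20 (by omega)
  obtain ⟨r3, p3, h3, -⟩ := C.L.ex 24 (by omega)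
  obtain ⟨r4, p4, h4, -⟩ := C.L.ex 30 (by omega)
  have c1 : Cl (od q r1) := by unfold Cl; omega
  have c2 : Cl (od q r2) := by unfold Cl; omega
  have c3 : Cl (od q r3) := by unfold Cl; omega
  have c4 : Cl (od q r4) := by unfold Cl; omega
  have i12 := C.inj p1 p2 c1 c2
  have i13 := C.inj p1 p3 c1 c3
  have i14 := C.inj p1 p4 c1 c4
  have i23 := C.inj p2 p3 c2 c3
  have i24 := C.inj p2 p4 c2 c4
  have i34 := C.inj p3 p4 c3 c4
  have d1 := (C.mem3 p1 c1).2.2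
  have d2 := (C.mem3 p2 c2).2.2
  have d3 := (C.mem3 p3 c3).2.2
  have d4 := (C.mem3 p4 c4).2.2
  by_contra hn
  have n1 : od u r1 ≠ m := fun h => hn ⟨r1, p1, c1, h⟩
  have n2 : od u r2 ≠ m := fun h => hn ⟨r2, p2, c2, h⟩
  have n3 : od u r3 ≠ m := fun h => hn ⟨r3, p3, c3, h⟩
  have n4 : od u r4 ≠ m := fun h => hn ⟨r4, p4, c4, h⟩
  rw [h1, h2] at i12
  rw [h1, h3] at i13
  rw [h1, h4] at i14
  rw [h2, h3] at i23
  rw [h2, h4] at i24
  rw [h3, h4] at i34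
  unfold Cl at hm d1 d2 d3 d4
  clear hn c1 c2 c3 c4 h1 h2 h3 h4
  have i12' : od u r2 ≠ od u r1 := fun h => by have := i12 h; omega
  have i13' : od u r3 ≠ od u r1 := fun h => by have := i13 h; omega
  have i14' : od u r4 ≠ od u r1 := fun h => by have := i14 h; omega
  have i23' : od u r3 ≠ od u r2 := fun h => by have := i23 h; omega
  have i24' : od u r4 ≠ od u r2 := fun h => by have := i24 h; omega
  have i34' : od u r4 ≠ od u r3 := fun h => by have := i34 h; omega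
  clear i12 i13 i14 i23 i24 i34
  rcases d1 with d1 | d1 | d1 | d1 <;> rcases d2 with d2 | d2 | d2 | d2 <;> rcases d3 with d3 | d3 | d3 | d3 <;>
    rcases d4 with d4 | d4 | d4 | d4 <;> omega

theorem conv {r : ℕ} (hr : r.Prime) (h : Cl (od u r)) : Cl (od q r) := by
  obtain ⟨r', hr', c', h'⟩ := C.surj h
  by_cases hrs : r' = r
  · rw [← hrs]; exact c'
  · rcases C.L.nbr r' r hr' hr c' (C.RS _ _ (C.S.clique r' r hr' hr hrs (by rw [h']; exact h) h'.symm)) with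
      h1 | ⟨-, rfl, h1⟩
    · rw [h1]; exact c'
    · have := C.S.od5
      unfold Cl at h
      omega

theorem fn {r s : ℕ} (hr : r.Prime) (hs : s.Prime) (h : Cl (od q r)) (he : od q s = od q r) : od u s = od u r := by
  have hcs : Cl (od q s) := by rw [he]; exact h
  have key : ∀ m₁ m₂ m₃ : ℕ, Cl m₁ → Cl m₂ → Cl m₃ → m₁ ≠ m₂ → m₁ ≠ m₃ → m₂ ≠ m₃ → od q r ≠ m₁ → od q r ≠ m₂ →
      od q r ≠ m₃ → od u s = od u r := by
    intro m₁ m₂ m₃ hm₁ hm₂ hm₃ h12 h13 h23 h1 h2 h3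
    obtain ⟨r₁, p₁, rfl, -⟩ := C.L.ex m₁ (by unfold Cl at hm₁; omega)
    obtain ⟨r₂, p₂, rfl, -⟩ := C.L.ex m₂ (by unfold Cl at hm₂; omega)
    obtain ⟨r₃, p₃, rfl, -⟩ := C.L.ex m₃ (by unfold Cl at hm₃; omega)
    have w : ∀ a b : ℕ, a.Prime → b.Prime → Cl (od q a) → Cl (od q b) → od q a ≠ od q b → od u a ≠ od u b :=
      fun a b ha hb h h' hne he => hne (C.inj hb ha h' h he)
    exact pigeon (C.mem3 hs hcs).2.2 (C.mem3 hr h).2.2 (C.mem3 p₁ hm₁).2.2 (C.mem3 p₂ hm₂).2.2 (C.mem3 p₃ hm₃).2.2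
      (w _ _ p₁ p₂ hm₁ hm₂ h12) (w _ _ p₁ p₃ hm₁ hm₃ h13) (w _ _ p₂ p₃ hm₂ hm₃ h23)
      (w _ _ hs p₁ hcs hm₁ (by rw [he]; exact h1)) (w _ _ hs p₂ hcs hm₂ (by rw [he]; exact h2))
      (w _ _ hs p₃ hcs hm₃ (by rw [he]; exact h3))
      (w _ _ hr p₁ h hm₁ h1) (w _ _ hr p₂ h hm₂ h2) (w _ _ hr p₃ h hm₃ h3)
  have h' := h
  rcases h' with h' | h' | h' | h'
  · exact key 20 24 30 (by unfold Cl; omega) (by unfold Cl; omega) (by unfold Cl; omega) (by omega) (by omega)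
      (by omega) (by omega) (by omega) (by omega)
  · exact key 15 24 30 (by unfold Cl; omega) (by unfold Cl; omega) (by unfold Cl; omega) (by omega) (by omega)
      (by omega) (by omega) (by omega) (by omega)
  · exact key 15 20 30 (by unfold Cl; omega) (by unfold Cl; omega) (by unfold Cl; omega) (by omega) (by omega)
      (by omega) (by omega) (by omega) (by omega)
  · exact key 15 20 24 (by unfold Cl; omega) (by unfold Cl; omega) (by unfold Cl; omega) (by omega) (by omega)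
      (by omega) (by omega) (by omega) (by omega)

/-- `q² ≡ -1` modulo 5 implies `u² ≡ -1` modulo 5 -/
theorem five (h5 : od q 5 = 4) : od u 5 = 4 := by
  by_contra hu
  obtain ⟨r₁, p₁, h₁, D₁⟩ := C.L.ex 7 (by omega)
  obtain ⟨r₂, p₂, h₂, D₂⟩ := C.L.ex 9 (by omega)
  obtain ⟨r₃, p₃, h₃, D₃⟩ := C.L.ex 15 (by omega)
  obtain ⟨r₄, p₄, h₄, D₄⟩ := C.L.ex 24 (by omega)
  obtain ⟨r₅, p₅, h₅, D₅⟩ := C.L.ex 30 (by omega)
  have c₃ : Cl (od q r₃) := by unfold Cl; omega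
  have c₄ : Cl (od q r₄) := by unfold Cl; omega
  have c₅ : Cl (od q r₅) := by unfold Cl; omega
  have n : ∀ r, r.Prime → Cl (od q r) → od q r ≠ 20 → ¬ R r 5 := by
    intro r hr hc h20 hR
    have := C.L.nbr r 5 hr Nat.prime_five hc hR
    unfold Cl at hc
    omega
  have n5 : ∀ r, od q r ≠ 4 → r ≠ 5 := by
    rintro r h rfl
    exact h h5
  have e₁ := (C.mem p₁ (Or.inr ⟨rfl, hu⟩) (n5 _ (by omega)) D₁ (C.L.non5 _ p₁ h5 (Or.inl h₁))).2.2
  have e₂ := (C.mem p₂ (Or.inr ⟨rfl, hu⟩) (n5 _ (by omega)) D₂ (C.L.non5 _ p₂ h5 (Or.inr h₂))).2.2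
  have e₃ := (C.mem p₃ (Or.inr ⟨rfl, hu⟩) (n5 _ (by omega)) D₃ (n _ p₃ c₃ (by omega))).2.2
  have e₄ := (C.mem p₄ (Or.inr ⟨rfl, hu⟩) (n5 _ (by omega)) D₄ (n _ p₄ c₄ (by omega))).2.2
  have e₅ := (C.mem p₅ (Or.inr ⟨rfl, hu⟩) (n5 _ (by omega)) D₅ (n _ p₅ c₅ (by omega))).2.2
  have w : ∀ a b : ℕ, a.Prime → b.Prime → Cl (od u a) → od q a ≠ od q b → ¬ R a b → od u a ≠ od u b := by
    intro a b ha hb hc hne hR he
    exact hR (C.RS _ _ (C.S.clique a b ha hb (fun h => hne (by rw [h])) hc he.symm))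
  have w' : ∀ a b : ℕ, a.Prime → b.Prime → Cl (od u b) → Cl (od q b) → od q a ≠ od q b → a ≠ 5 → od u a ≠ od u b := by
    intro a b ha hb hc hq hne h5' he
    refine w b a hb ha hc hne.symm (fun hR => ?_) he.symm
    rcases C.L.nbr b a hb ha hq hR with h | ⟨-, h, -⟩
    · exact hne h
    · exact h5' h
  have f12 : od u r₁ ≠ od u r₂ := w _ _ p₁ p₂ e₁ (by omega) (C.L.non79 _ _ p₁ p₂ h₁ h₂)
  have f13 := w' r₁ r₃ p₁ p₃ e₃ c₃ (by omega) (n5 _ (by omega))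
  have f14 := w' r₁ r₄ p₁ p₄ e₄ c₄ (by omega) (n5 _ (by omega))
  have f15 := w' r₁ r₅ p₁ p₅ e₅ c₅ (by omega) (n5 _ (by omega))
  have f23 := w' r₂ r₃ p₂ p₃ e₃ c₃ (by omega) (n5 _ (by omega))
  have f24 := w' r₂ r₄ p₂ p₄ e₄ c₄ (by omega) (n5 _ (by omega))
  have f25 := w' r₂ r₅ p₂ p₅ e₅ c₅ (by omega) (n5 _ (by omega))
  have f34 := w' r₃ r₄ p₃ p₄ e₄ c₄ (by omega) (n5 _ (by omega))
  have f35 := w' r₃ r₅ p₃ p₅ e₅ c₅ (by omega) (n5 _ (by omega))
  have f45 := w' r₄ r₅ p₄ p₅ e₅ c₅ (by omega) (n5 _ (by omega))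
  exact f12 (pigeon e₁ e₂ e₃ e₄ e₅ f34 f35 f45 f13 f14 f15 f23 f24 f25)

/-- if the class of `q`-order 20 is not the class of `u`-order 20, and `5` is adjacent to the former, contradiction -/
theorem twenty {r : ℕ} (hr : r.Prime) (h5 : od q 5 = 4) (hq : od q r = 20) : od u r = 20 := by
  by_contra hne
  obtain ⟨r', hr', c', h'⟩ := C.surj (m := 20) (by unfold Cl; omega)
  have h1 : od q r' ≠ 20 := by
    intro h
    apply hne
    rw [← h', C.fn hr hr' (by unfold Cl; omega) (by rw [h, hq])]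
  have h2 := C.L.nbr r' 5 hr' Nat.prime_five c' (C.RS _ _ (C.S.five r' hr' (C.five h5) h'))
  unfold Cl at c'
  omega

/-- **(K)** every prime divisor of `|K|` is not adjacent to some prime of `u`-order 24 -/
theorem K24 {l : ℕ} (hl : l.Prime) (hK : K l) : ∃ r, r.Prime ∧ od u r = 24 ∧ r ≠ l ∧ ¬ R l r := by
  obtain ⟨r, hr, c, h⟩ := C.surj (m := 24) (by unfold Cl; omega)
  refine ⟨r, hr, h, ?_, ?_⟩
  · rintro rfl
    exact (C.mem3 hr c).1 hK
  · intro hR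
    rcases C.L.nbr r l hr hl c (C.L.symm _ _ hR) with h1 | ⟨h1, rfl, h5⟩
    · exact (C.mem3 hl (by rw [h1]; exact c)).1 hK
    · have := C.twenty hr h5 h1
      omega

/-- **(Out)** no outer part -/
theorem not_I {t : ℕ} (ht : t.Prime) : ¬ I t := by
  intro hI
  obtain ⟨u₀, R₀, D₀, hu, hF, h0⟩ := C.I t ht hI
  have key : ∀ m, Cl m → ¬ t ∣ m → t = 5 ∧ m = 20 ∧ od q 5 = 4 := by
    intro m hm htm
    obtain ⟨r, hr, h, hD⟩ := hF.ex m (by unfold Cl at hm; omega)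
    have h1 : od u r = m := by
      rw [hu]
      exact od_pow h (by unfold Cl at hm; omega) ht htm
    have h2 := C.conv hr (by rw [h1]; exact hm)
    have hrt : r ≠ t := by
      rintro rfl
      exact (C.mem3 hr h2).2.1 hI
    rcases C.L.nbr r t hr ht h2 (C.L.symm _ _ (h0 r hr hrt hD)) with h3 | ⟨h3, rfl, h5⟩
    · exact ((C.mem3 ht (by rw [h3]; exact h2)).2.1 hI).elim
    · refine ⟨rfl, ?_, h5⟩
      rw [← h1, C.twenty hr h5 h3]
  have h24 : t ∣ 24 := by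
    by_contra h
    have := (key 24 (by unfold Cl; omega) h).2.1
    omega
  by_cases h15 : t ∣ 15
  · have h3 : t ∣ 3 := by
      have := Nat.dvd_gcd h24 h15
      simpa using this
    rw [(Nat.prime_dvd_prime_iff_eq ht Nat.prime_three).1 h3] at key
    have := (key 20 (by unfold Cl; omega) (by omega)).1
    omega
  · have := (key 15 (by unfold Cl; omega) h15).2.1
    omega

end Ctx

end Cfsg.Agent.H413.E8.Comb
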