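import Cfsg.Agent.H413.E8.Comb
import Cfsg.Agent.H413.E8.AdjS
import Cfsg.Agent.H484.E8Facts

/-!
# The facts on the prime graph of `E₈(q)` (helper413, S3636)
-/

set_option autoImplicit false

namespace Cfsg.Agent.H413.E8

open Cfsg Cfsg.Lie Cfsg.Agent.H378.ExcAdj Cfsg.Agent.H413.E8.Comb

universe u

theorem dvd_three (q : ℕ) : 3 ∣ q ∨ 3 ∣ q - 1 ∨ 3 ∣ q + 1 := by omega

theorem dvd_five {q : ℕ} (hq : 1 ≤ q) (h : od q 5 ≠ 4) : 5 ∣ q ∨ 5 ∣ q - 1 ∨ 5 ∣ q + 1 := by
  by_contra hcon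
  apply h
  have h2 : q % 5 = 2 ∨ q % 5 = 3 := by omega
  have h4 : 5 ∣ q ^ 4 - 1 := by
    have h1 : q ^ 4 % 5 = 1 := by
      rw [Nat.pow_mod]
      rcases h2 with h2 | h2 <;> rw [h2]
    have h3 : 1 ≤ q ^ 4 := Nat.one_le_pow _ _ hq
    omega
  have h5 := od_dvd hq h4
  have h6 : ¬ 5 ∣ q ^ 2 - 1 := by
    intro h6
    have h7 : q ^ 2 % 5 = 4 := by
      rw [Nat.pow_mod]
      rcases h2 with h2 | h2 <;> rw [h2]
    have h3 : 1 ≤ q ^ 2 := Nat.one_le_pow _ _ hq
    omega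
  have h7 : ¬ od q 5 ∣ 2 := fun h7 => h6 (dvd_of_od_dvd hq h7)
  have h8 : od q 5 ∈ Nat.divisors 4 := Nat.mem_divisors.2 ⟨h5, by norm_num⟩
  have h9 : Nat.divisors 4 = {1, 2, 4} := by decide
  rw [h9] at h8
  simp only [Finset.mem_insert, Finset.mem_singleton] at h8
  rcases h8 with h8 | h8 | h8
  · exact absurd (by rw [h8]; norm_num) h7
  · exact absurd (by rw [h8]) h7
  · exact h8

theorem od_five_le {q : ℕ} (hq : 1 ≤ q) : od q 5 ≤ 4 := by
  by_cases h : 5 ∣ q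
  · have h0 : ((q : ℕ) : ZMod 5) = 0 := (ZMod.natCast_eq_zero_iff _ 5).2 h
    have h1 : od q 5 = 0 := by
      show orderOf ((q : ℕ) : ZMod 5) = 0
      rw [h0, orderOf_eq_zero_iff']
      intro k hk h1
      rw [zero_pow hk.ne'] at h1
      exact absurd h1 (by decide : (0 : ZMod 5) ≠ 1)
    omega
  · refine Nat.le_of_dvd (by norm_num) (od_dvd hq ?_)
    have h1 : q ^ 4 % 5 = 1 := by
      have h2 : q % 5 = 1 ∨ q % 5 = 2 ∨ q % 5 = 3 ∨ q % 5 = 4 := by omega
      rw [Nat.pow_mod]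
      rcases h2 with h2 | h2 | h2 | h2 <;> rw [h2]
    have h3 : 1 ≤ q ^ 4 := Nat.one_le_pow _ _ hq
    omega

theorem od_five_iff {q : ℕ} (hq : 1 ≤ q) : od q 5 = 4 ↔ q % 5 = 2 ∨ q % 5 = 3 := by
  constructor
  · intro h
    by_contra hcon
    have h1 : 5 ∣ q ∨ 5 ∣ q ^ 2 - 1 := by
      rcases Nat.lt_or_ge 0 (q % 5) with h0 | h0
      · right
        have h2 : q % 5 = 1 ∨ q % 5 = 4 := by omega
        have h3 : q ^ 2 % 5 = 1 := by
          rw [Nat.pow_mod]
          rcases h2 with h2 | h2 <;> rw [h2]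
        have h4 : 1 ≤ q ^ 2 := Nat.one_le_pow _ _ hq
        omega
      · left; omega
    rcases h1 with h1 | h1
    · have h0 : ((q : ℕ) : ZMod 5) = 0 := (ZMod.natCast_eq_zero_iff _ 5).2 h1
      have h3 : od q 5 = 0 := by
        show orderOf ((q : ℕ) : ZMod 5) = 0
        rw [h0, orderOf_eq_zero_iff']
        intro k hk h1
        rw [zero_pow hk.ne'] at h1
        exact absurd h1 (by decide : (0 : ZMod 5) ≠ 1)
      omega
    · have h2 := od_dvd hq h1
      rw [h] at h2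
      exact absurd h2 (by norm_num)
  · intro h
    by_contra hcon
    rcases dvd_five hq hcon with h1 | h1 | h1 <;> omega

/-- the facts on the prime graph of `E₈(F)` -/
theorem facts (F : Type u) [Field F] [Finite F] :
    Facts (H493.PG.Rel ↥(chevE8.group F)) (fun r => r ∣ Nat.card ↥(chevE8.group F)) (Nat.card F) := by
  have hq : 1 ≤ Nat.card F := Nat.card_pos
  refine ⟨fun m hm => H484.E8Facts.ex F hm, fun r _ h => H484.E8Facts.dvd h, fun r s h => h.symm,
    fun r s hr hs hne hc he => H484.E8Facts.clique hc hr hs rfl he hne,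
    fun r s hr hs hc h => H484.E8Facts.nbr hc rfl h, fun r hr h5 h => H484.E8Facts.five hr h5 h,
    ?_, ?_, fun r s _ _ h7 h9 => H484.E8Facts.non79 h7 h9, AdjS.od_le_two Nat.prime_three (dvd_three _),
    od_five_le hq, AdjS.dvd_card (dvd_three _), ?_⟩
  · intro r s hr hs hne hd
    rcases hs with rfl | ⟨rfl, h5⟩
    · exact AdjS.adj hr Nat.prime_three hne (by norm_num) (dvd_three _) hd
    · exact AdjS.adj hr Nat.prime_five hne (by norm_num) (dvd_five hq h5) hd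
  · intro r hr h5 hm hR
    obtain ⟨-, -, -, x, hx⟩ := hR
    have : Fintype F := Fintype.ofFinite F
    rw [Nat.card_eq_fintype_card] at h5 hm
    exact Non5.ne_order hr hm h5 rfl x (by rw [hx, mul_comm])
  · show 5 ∣ Nat.card ↥(chevE8.group F)
    by_cases h5 : od (Nat.card F) 5 = 4
    · exact H484.E8Facts.dvd_card (d := 8) (by simp) (by rw [h5]; norm_num)
    · exact AdjS.dvd_card (dvd_five hq h5)

end Cfsg.Agent.H413.E8
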