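import Cfsg.Agent.H413.E8.Graph
import Cfsg.Agent.H992.E8X.UCAll
import Cfsg.Agent.H992.E8X.Out

/-!
# Groups with the prime graph of `E₈(q)` (helper413, S3636)

* `solv_bot` : the solvable normal subgroups of `G` are trivial;
* `main` : `G ≅ E₈(F')`.
-/

set_option autoImplicit false
set_option linter.unusedSectionVars false

namespace Cfsg.Agent.H413.E8.Final

open Cfsg Cfsg.Lie Cfsg.Agent.H378.ExcAdj Cfsg.Agent.H407.E8 Cfsg.Agent.H413.E8.Graph

universe u v w

/-- the outer part -/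
theorem outRel {X : Type u} [Group X] [Finite X] (S : Subgroup X) [S.Normal]
    (hC : Subgroup.centralizer (S : Set X) = ⊥) {F' : Type w} [Field F'] [Finite F'] (e : ↥S ≃* ↥(chevE8.group F')) :
    OutRel S F' := by
  intro t ht htS
  have : Fintype F' := Fintype.ofFinite F'
  obtain ⟨F₀, _, _, h1, h2⟩ := H992.E8X.OutStep.out_rel S hC e ht htS
  exact ⟨F₀, inferInstance, inferInstance, by rw [Nat.card_eq_fintype_card, Nat.card_eq_fintype_card]; exact h1, h2⟩

variable {F : Type v} [Field F] [Finite F] {G : Type u} [Group G] [Finite G]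

theorem main' (h : Same ↥(chevE8.group F) G) :
    ∃ (K : Subgroup G) (_ : K.Normal) (S : Subgroup (G ⧸ K)) (_ : S.Normal) (F' : Type) (_ : Field F') (_ : Fintype F'),
      Fr F K S ∧ K = ⊥ ∧ S = ⊤ ∧ Nonempty (↥S ≃* ↥(chevE8.group F')) ∧
      (Nat.card F % 5 = 2 ∨ Nat.card F % 5 = 3 → Nat.card F' % 5 = 2 ∨ Nat.card F' % 5 = 3) := by
  obtain ⟨K, hK, S, hS, hFr⟩ := exists_frame h
  obtain ⟨F', _, _, ⟨e⟩⟩ := hFr.e8
  have C := ctx h e (outRel S hFr.red.cent e)
  exact ⟨K, hK, S, hS, F', inferInstance, inferInstance, hFr, hFr.bot e (hl C h) (fun l hl => H992.E8X.uc F' hl),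
    eq_top C, ⟨e⟩, mod_five C⟩

/-- **A finite group with the prime graph of `E₈(q)` is `E₈(u)`.** -/
theorem main (h : Same ↥(chevE8.group F) G) :
    ∃ (F' : Type) (_ : Field F') (_ : Fintype F'),
      (Nat.card F % 5 = 2 ∨ Nat.card F % 5 = 3 → Nat.card F' % 5 = 2 ∨ Nat.card F' % 5 = 3) ∧
      Nonempty (G ≃* ↥(chevE8.group F')) := by
  obtain ⟨K, hK, S, hS, F', _, _, -, h1, h2, ⟨e⟩, h3⟩ := main' h
  exact ⟨F', inferInstance, inferInstance, h3, equiv_of e h1 h2⟩

theorem solv_bot (h : Same ↥(chevE8.group F) G) (N : Subgroup G) (hN : N.Normal)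
    (hs : Group.IsSolvable ↥N) : N = ⊥ := by
  obtain ⟨K, hK, S, hS, F', _, _, hFr, h1, -⟩ := main' h
  exact le_bot_iff.1 (h1 ▸ hFr.red.max N hN hs)

end Cfsg.Agent.H413.E8.Final
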