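import Cfsg.Agent.H868.KSL2
import Cfsg.Agent.H813.NonCyc
import Cfsg.Agent.H493.PGRed
import Cfsg.Agent.S0242

/-!
# Noncyclic Sylow subgroups of `E₈(q)` and the primes of a normal subgroup (helper413, S3636)

* `exists_sylow` : the Sylow `s`-subgroups of `E₈(q)` are not cyclic, `s ≠ 2` dividing `q (q² - 1)`;
* `rel_of_noncyclic`, `ker_rel` : the primes `t ≠ s` dividing `|K|` are adjacent to `s` if `E₈(q)` is a subgroup of `G/K`.
-/

set_option autoImplicit false
set_option linter.unusedSectionVars false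

namespace Cfsg.Agent.H413.E8.NonCyc

open Subgroup Cfsg Cfsg.Lie
open Cfsg.Agent.H92.ExcSL2 Cfsg.Agent.H868.KSL2
open Cfsg.Agent.ChevalleyStructure Cfsg.Agent.ChevalleyStructure.Elts

universe u v

theorem card_SL2 {F : Type u} [Field F] [Finite F] : Nat.card (Matrix.SpecialLinearGroup (Fin 2) F) =
    Nat.card F * (Nat.card F ^ 2 - 1) := by
  have : Fintype F := Fintype.ofFinite F
  have h1 := Cfsg.Agent.S0242.result (F := F) rfl 2 (by norm_num)
  have hq : 2 ≤ Fintype.card F := Fintype.one_lt_card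
  rw [Fin.prod_univ_two] at h1
  have h3 : Fintype.card F ^ 2 - Fintype.card F ^ 1 = (Fintype.card F - 1) * Fintype.card F := by
    rw [Nat.sub_mul, one_mul, pow_one, pow_two]
  simp only [Fin.val_zero, Fin.val_one, pow_zero] at h1
  rw [h3] at h1
  have h4 : (Fintype.card F - 1) * Nat.card (Matrix.SpecialLinearGroup (Fin 2) F) =
      (Fintype.card F - 1) * (Fintype.card F * (Fintype.card F ^ 2 - 1)) := by rw [h1]; ring
  rw [Nat.card_eq_fintype_card (α := F)]
  exact Nat.eq_of_mul_eq_mul_left (by omega) h4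

theorem dvd_of {s q : ℕ} (hq : 1 ≤ q) (h : s ∣ q ∨ s ∣ q - 1 ∨ s ∣ q + 1) : s ∣ q * (q ^ 2 - 1) := by
  obtain ⟨m, rfl⟩ : ∃ m, q = m + 1 := ⟨_, (Nat.sub_add_cancel hq).symm⟩
  have e : (m + 1) ^ 2 - 1 = (m + 1 + 1) * (m + 1 - 1) := by
    have e : (m + 1) ^ 2 = (m + 1 + 1) * (m + 1 - 1) + 1 := by
      rw [Nat.add_sub_cancel]; ring
    rw [e, Nat.add_sub_cancel]
  rw [e]
  rcases h with h | h | h
  · exact h.mul_right _
  · exact (h.mul_left _).mul_left _
  · exact (h.mul_right _).mul_left _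

theorem inl : InList chevE8 := by simp [InList]

theorem l0 : chevE8.simple 0 < chevE8.nroots := by decide +kernel

theorem l1 : 239 < chevE8.nroots := by decide +kernel

theorem orth : Orth4 chevE8 (chevE8.simple 0) 239 = true := by decide +kernel

/-- subgroups of a cyclic group of the same order -/
theorem eq_of_card {G : Type*} [Group G] [Finite G] [IsCyclic G] {H K : Subgroup G} (h : Nat.card H = Nat.card K) :
    H = K := by
  have key : ∀ H : Subgroup G, (H : Set G) = {a | a ^ Nat.card H = 1} := by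
    classical
    have := Fintype.ofFinite G
    intro H
    refine Set.eq_of_subset_of_ncard_le ?_ ?_ (Set.toFinite _)
    · intro a ha
      have h1 : (⟨a, ha⟩ : H) ^ Nat.card H = 1 := pow_card_eq_one'
      exact congrArg Subtype.val h1
    · have h2 : (Finset.univ.filter fun a : G => a ^ Nat.card H = 1).card ≤ Nat.card H :=
        IsCyclic.card_pow_eq_one_le Nat.card_pos
      have h3 : {a : G | a ^ Nat.card H = 1}.ncard = (Finset.univ.filter fun a : G => a ^ Nat.card H = 1).card := by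
        rw [← Set.ncard_coe_finset]
        congr 1
        ext a
        simp
      rw [h3]
      exact h2.trans (le_of_eq rfl)
  apply SetLike.coe_injective
  rw [key H, key K, h]

/-- **The Sylow `s`-subgroups of `E₈(q)` are not cyclic.** -/
theorem exists_sylow {F : Type u} [Field F] [Finite F] {s : ℕ} (hs : s.Prime) (hs2 : s ≠ 2)
    (hsq : s ∣ Nat.card F ∨ s ∣ Nat.card F - 1 ∨ s ∣ Nat.card F + 1) :
    ∃ P : Sylow s ↥(chevE8.group F), ¬ IsCyclic P := by
  have hf : Fact s.Prime := ⟨hs⟩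
  obtain ⟨g, hg⟩ := exists_prime_orderOf_dvd_card' (G := Matrix.SpecialLinearGroup (Fin 2) F) s
    (by rw [card_SL2]; exact dvd_of Nat.card_pos hsq)
  have hf0 := kerPM_ph (F := F) inl l0
  have hg0 := kerPM_ph (F := F) inl l1
  have hodd : Odd (orderOf g) := by rw [hg]; exact hs.odd_of_ne_two hs2
  have oA : orderOf (ph (F := F) inl l0 g) = s := by rw [hf0.orderOf_eq _ hodd, hg]
  have oB : orderOf (ph (F := F) inl l1 g) = s := by rw [hg0.orderOf_eq _ hodd, hg]
  have hc : ∀ x y, Commute (ph (F := F) inl l0 x) (ph (F := F) inl l1 y) := fun x y => ph_commute inl l0 l1 orth x y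
  have hab : ph (F := F) inl l0 g ∉ zpowers (ph (F := F) inl l1 g) := by
    rintro ⟨i, hi⟩
    have hi : (ph (F := F) inl l1 g) ^ i = ph (F := F) inl l0 g := hi
    have h2 : ∀ x, Commute (ph (F := F) inl l0 g) (ph (F := F) inl l0 x) := by
      intro x
      rw [← hi]
      exact (hc x g).symm.zpow_left i
    rcases hf0.eq_of_commute h2 with h4 | h4
    · rw [h4, orderOf_one] at hg
      exact hs.one_lt.ne' hg.symm
    · have h5 : g ^ 2 = 1 := by rw [h4]; simp
      have h6 := orderOf_dvd_of_pow_eq_one h5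
      rw [hg] at h6
      exact hs2 ((Nat.prime_dvd_prime_iff_eq hs Nat.prime_two).1 h6)
  -- the subgroup generated by the two elements
  set a := ph (F := F) inl l0 g
  set b := ph (F := F) inl l1 g
  have hcomm : ∀ (x : zpowers a) (y : zpowers b), Commute ((zpowers a).subtype x) ((zpowers b).subtype y) := by
    rintro ⟨_, i, rfl⟩ ⟨_, j, rfl⟩
    exact ((hc g g).zpow_zpow i j)
  let f : zpowers a × zpowers b →* ↥(chevE8.group F) := MonoidHom.noncommCoprod (zpowers a).subtype
    (zpowers b).subtype hcomm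
  have hP : IsPGroup s f.range := by
    have h1 : IsPGroup s (zpowers a × zpowers b) := by
      apply IsPGroup.of_card (n := 2)
      rw [Nat.card_prod, Nat.card_zpowers, Nat.card_zpowers, oA, oB, pow_two]
    exact h1.of_surjective f.rangeRestrict f.rangeRestrict_surjective
  obtain ⟨P, hRP⟩ := hP.exists_le_sylow
  refine ⟨P, fun hcy => hab ?_⟩
  have haP : a ∈ P := hRP ⟨(⟨a, mem_zpowers a⟩, 1), by simp [f]⟩
  have hbP : b ∈ P := hRP ⟨(1, ⟨b, mem_zpowers b⟩), by simp [f]⟩
  have e1 : orderOf (⟨a, haP⟩ : P) = s := (Subgroup.orderOf_mk a haP).trans oA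
  have e2 : orderOf (⟨b, hbP⟩ : P) = s := (Subgroup.orderOf_mk b hbP).trans oB
  have h1 : (⟨a, haP⟩ : P) ∈ zpowers (⟨b, hbP⟩ : P) := by
    have h2 : Nat.card ↥(zpowers (⟨a, haP⟩ : P)) = Nat.card ↥(zpowers (⟨b, hbP⟩ : P)) := by
      rw [Nat.card_zpowers, Nat.card_zpowers, e1, e2]
    have h3 := eq_of_card h2
    rw [← h3]
    exact mem_zpowers _
  obtain ⟨i, hi⟩ := h1
  exact ⟨i, congrArg Subtype.val hi⟩

/-- **A noncyclic `s`-subgroup of `G/N` and a prime `t ∣ |N|`.** -/
theorem rel_of_noncyclic {G : Type*} [Group G] [Finite G] {N : Subgroup G} [N.Normal] {t s : ℕ} (ht : t.Prime)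
    (hs : s.Prime) (hs2 : s ≠ 2) (hst : s ≠ t) (htN : t ∣ Nat.card ↥N) (E : Subgroup (G ⧸ N)) (hE : IsPGroup s E)
    (hE' : ¬ IsCyclic E) : ∃ x : G, orderOf x = s * t := by
  have hsf : Fact s.Prime := ⟨hs⟩
  obtain ⟨P, Q, hP, hP1, hQ, hQP, S, hS⟩ := H813.NonCyc.exists_cover (G := G) (N := N) ht hs htN E
  refine H813.NonCyc.core ht hs hs2 hst hP hP1 hQ (fun hc => hE' ?_) hQP
  have hSc := hS hc
  have hST : (S : Subgroup E) = ⊤ := (S.3 (Q := ⊤) (hE.to_subgroup ⊤) le_top).symm
  have h1 : IsCyclic (S : Subgroup E) := hSc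
  rw [hST] at h1
  exact isCyclic_of_surjective (Subgroup.topEquiv (G := E)).toMonoidHom (Subgroup.topEquiv (G := E)).surjective

/-- **The primes of the kernel.** -/
theorem ker_rel {G : Type*} [Group G] [Finite G] {K : Subgroup G} [K.Normal] {S : Subgroup (G ⧸ K)}
    {F : Type v} [Field F] [Finite F] (e : ↥S ≃* ↥(chevE8.group F)) {s t : ℕ} (hs : s.Prime) (ht : t.Prime)
    (hs2 : s ≠ 2) (hst : s ≠ t) (hsq : s ∣ Nat.card F ∨ s ∣ Nat.card F - 1 ∨ s ∣ Nat.card F + 1)
    (htK : t ∣ Nat.card ↥K) : H493.PG.Rel G s t := by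
  have hf : Fact s.Prime := ⟨hs⟩
  obtain ⟨P, hP⟩ := exists_sylow (F := F) hs hs2 hsq
  let j : ↥(chevE8.group F) →* G ⧸ K := S.subtype.comp e.symm.toMonoidHom
  have hj : Function.Injective j := S.subtype_injective.comp e.symm.injective
  have hiso : (P : Subgroup ↥(chevE8.group F)) ≃* ((P : Subgroup ↥(chevE8.group F)).map j) :=
    Subgroup.equivMapOfInjective _ _ hj
  obtain ⟨x, hx⟩ := rel_of_noncyclic ht hs hs2 hst htK ((P : Subgroup ↥(chevE8.group F)).map j) (P.2.map j)
    (fun hc => hP (isCyclic_of_surjective hiso.symm.toMonoidHom hiso.symm.surjective))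
  exact ⟨hs, ht, hst, x, hx⟩

end Cfsg.Agent.H413.E8.NonCyc
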