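import Cfsg.Agent.H378.LatCodim

/-!
# The lattice `E₈` has no isometry with characteristic polynomial `Φ₄ Φ_m`, `φ(m) = 6` (helper413, S3636)

* `herm` : a rank one hermitian form;
* `ker_eq_zero` : even unimodular lattice, isometry `T`, `(T² + 1) Ψ(T) = 0`, `Ψ` and `X² + 1` coprime over `ℤ`, the
  kernel of `T² + 1` of rank at most two: the kernel is zero;
* `rank_le` : the rank of the kernel if `Ψ = Φ_m`, `φ(m) = 6`, lattice of rank 8.
-/

set_option autoImplicit false
set_option linter.unusedSectionVars false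

namespace Cfsg.Agent.H413.E8.Lat

open Polynomial Module
open Cfsg.Agent.H378.TorDual Cfsg.Agent.H378.LatCyc Cfsg.Agent.H378.LatCodim

section Abs

variable {L : Type*} [AddCommGroup L] {B : L →ₗ[ℤ] L →ₗ[ℤ] ℤ} {T : Module.End ℤ L}

theorem herm (hsymm : ∀ x y, B x y = B y x) (hT : ∀ x y, B (T x) (T y) = B x y) {v y : L} (hv : T (T v) = -v)
    {a b c : ℤ} (hc : c ≠ 0) (h : c • y = a • v + b • T v) :
    B v y ^ 2 + B (T v) y ^ 2 = B v v * B y y := by
  have h0 : B v (T v) = 0 := by
    have h1 := hT v (T v)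
    rw [hv, map_neg, hsymm (T v) v] at h1
    omega
  have h0' : B (T v) v = 0 := by rw [hsymm, h0]
  have e1 : c * B v y = a * B v v := by
    have h2 := congrArg (B v) h
    rw [map_smul, map_add, map_smul, map_smul, h0, smul_eq_mul, smul_eq_mul, smul_eq_mul, mul_zero,
      add_zero] at h2
    exact h2
  have e2 : c * B (T v) y = b * B v v := by
    have h2 := congrArg (B (T v)) h
    rw [map_smul, map_add, map_smul, map_smul, h0', hT, smul_eq_mul, smul_eq_mul, smul_eq_mul, mul_zero,
      zero_add] at h2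
    exact h2
  have e3 : c * B y y = a * B v y + b * B (T v) y := by
    have h2 := congrArg (fun z => B z y) h
    simp only [map_smul, map_add, LinearMap.smul_apply, LinearMap.add_apply, smul_eq_mul] at h2
    exact h2
  have hcc : c * c ≠ 0 := mul_ne_zero hc hc
  apply mul_left_cancel₀ hcc
  have e4 : c * c * B y y = (a * a + b * b) * B v v := by
    calc c * c * B y y = c * (c * B y y) := by ring
      _ = a * (c * B v y) + b * (c * B (T v) y) := by rw [e3]; ring
      _ = _ := by rw [e1, e2]; ring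
  calc c * c * (B v y ^ 2 + B (T v) y ^ 2) = (c * B v y) ^ 2 + (c * B (T v) y) ^ 2 := by ring
    _ = (a * a + b * b) * B v v * B v v := by rw [e1, e2]; ring
    _ = c * c * B y y * B v v := by rw [e4]
    _ = _ := by ring

theorem even_of_sq {k l m : ℤ} (h : k ^ 2 + l ^ 2 = 4 * m) : 2 ∣ k := by
  have h1 : (k ^ 2 + l ^ 2) % 4 = 0 := by omega
  have hk : k % 4 = 0 ∨ k % 4 = 1 ∨ k % 4 = 2 ∨ k % 4 = 3 := by omega
  have hl : l % 4 = 0 ∨ l % 4 = 1 ∨ l % 4 = 2 ∨ l % 4 = 3 := by omega
  rcases hk with hk | hk | hk | hk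
  · omega
  · exfalso
    rcases hl with hl | hl | hl | hl <;> simp [pow_two, Int.add_emod, Int.mul_emod, hk, hl] at h1
  · omega
  · exfalso
    rcases hl with hl | hl | hl | hl <;> simp [pow_two, Int.add_emod, Int.mul_emod, hk, hl] at h1

/-- **The kernel of `T² + 1` is zero.** -/
theorem ker_eq_zero (hsymm : ∀ x y, B x y = B y x) (hT : ∀ x y, B (T x) (T y) = B x y)
    (heven : ∀ x, 2 ∣ B x x) (huni : ∀ x, (∀ y, 2 ∣ B x y) → ∃ z, x = (2 : ℤ) • z)
    (hfin : ∀ x : L, (∀ n : ℕ, ∃ z, x = (2 ^ n : ℤ) • z) → x = 0) (htf : ∀ x : L, (2 : ℤ) • x = 0 → x = 0)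
    {Ψ a b : ℤ[X]} (hab : Ψ * b + (X ^ 2 + 1) * a = 1) (hΨ : aeval T ((X ^ 2 + 1) * Ψ) = 0)
    (hrank : ∀ v y : L, T (T v) = -v → T (T y) = -y → v ≠ 0 → ∃ a b c : ℤ, c ≠ 0 ∧ c • y = a • v + b • T v)
    {v : L} (hv : T (T v) = -v) : v = 0 := by
  have h4 : ∀ x : L, aeval T (X ^ 2 + 1 : ℤ[X]) x = T (T x) + x := by
    intro x
    rw [map_add, map_pow, aeval_X, map_one, LinearMap.add_apply, pow_two, Module.End.mul_apply, Module.End.one_apply]
  -- divisibility by two
  have key : ∀ v : L, T (T v) = -v → ∃ z, v = (2 : ℤ) • z := by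
    intro v hv
    apply huni
    intro y
    by_cases hv0 : v = 0
    · rw [hv0, map_zero, LinearMap.zero_apply]
      exact dvd_zero _
    set y1 := aeval T (Ψ * b) y with hy1
    set y2 := aeval T a y with hy2
    have hy : y = y1 + (T (T y2) + y2) := by
      rw [← h4, hy1, hy2, ← Module.End.mul_apply, ← map_mul, ← LinearMap.add_apply, ← map_add, hab, map_one,
        Module.End.one_apply]
    have hy1' : T (T y1) = -y1 := by
      have h5 : aeval T (X ^ 2 + 1 : ℤ[X]) y1 = 0 := by
        rw [hy1, ← Module.End.mul_apply, ← map_mul, ← mul_assoc, map_mul, hΨ, zero_mul, LinearMap.zero_apply]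
      rw [h4] at h5
      exact eq_neg_of_add_eq_zero_left h5
    have h6 : B v (T (T y2) + y2) = 0 := by
      have h7 : B v (T (T y2)) = - B v y2 := by
        have h8 : v = - T (T v) := by rw [hv, neg_neg]
        conv_lhs => rw [h8]
        rw [map_neg, LinearMap.neg_apply, hT, hT]
      rw [map_add, h7, neg_add_cancel]
    rw [hy, map_add, h6, add_zero]
    obtain ⟨a', b', c', hc', hrel⟩ := hrank v y1 hv hy1' hv0
    have h9 := herm hsymm hT hv hc' hrel
    obtain ⟨n, hn⟩ := heven v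
    obtain ⟨m, hm⟩ := heven y1
    refine even_of_sq (m := n * m) (l := B (T v) y1) ?_
    rw [h9, hn, hm]
    ring
  have key2 : ∀ n : ℕ, ∃ z, T (T z) = -z ∧ v = (2 ^ n : ℤ) • z := by
    intro n
    induction n with
    | zero => exact ⟨v, hv, by rw [pow_zero, one_smul]⟩
    | succ n ih =>
      obtain ⟨z, hz, hvz⟩ := ih
      obtain ⟨z', hz'⟩ := key z hz
      refine ⟨z', ?_, ?_⟩
      · have h5 : (2 : ℤ) • (T (T z') + z') = 0 := by
          rw [smul_add, ← map_smul, ← map_smul, ← hz', hz, neg_add_cancel]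
        exact eq_neg_of_add_eq_zero_left (htf _ h5)
      · rw [hvz, hz', smul_smul, pow_succ]
  exact hfin v fun n => (key2 n).imp fun z h => h.2

end Abs

/-! ### the rank of the kernel -/

section Rank

variable {l : ℕ} {T : Module.End ℤ (Fin l → ℤ)}

theorem cyc4 : cyclotomic 4 ℤ = X ^ 2 + 1 := by
  have h : (4 : ℕ) = 2 ^ (1 + 1) := by norm_num
  rw [h, cyclotomic_prime_pow_eq_geom_sum Nat.prime_two]
  simp [Finset.sum_range_succ, add_comm]

theorem cyc4Q : cyclotomic 4 ℚ = X ^ 2 + 1 := by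
  have h := congrArg (Polynomial.map (Int.castRingHom ℚ)) cyc4
  rw [map_cyclotomic] at h
  rw [h]
  simp

theorem finrank_ker_ge {V : Type*} [AddCommGroup V] [Module ℚ V] [FiniteDimensional ℚ V] {ι : Type*} [Fintype ι]
    {f : ι → V} (hf : LinearIndependent ℚ f) {K : Submodule ℚ V} (hK : ∀ i, f i ∈ K) :
    Fintype.card ι ≤ finrank ℚ K := by
  have h1 : finrank ℚ (Submodule.span ℚ (Set.range f)) = Fintype.card ι := finrank_span_eq_card hf
  rw [← h1]
  apply Submodule.finrank_mono
  rw [Submodule.span_le]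
  rintro _ ⟨i, rfl⟩
  exact hK i

theorem aeval_pow_mem {V : Type*} [AddCommGroup V] [Module ℚ V] {S : Module.End ℚ V} {P : ℚ[X]} {v : V}
    (h : aeval S P v = 0) (i : ℕ) : aeval S P ((S ^ i) v) = 0 := by
  have h1 : aeval S P * S ^ i = S ^ i * aeval S P := by
    have h2 : S ^ i = aeval S (X ^ i : ℚ[X]) := by rw [map_pow, aeval_X]
    rw [h2, ← map_mul, ← map_mul, mul_comm]
  rw [← Module.End.mul_apply, h1, Module.End.mul_apply, h, map_zero]

/-- **The kernel of `T² + 1` has rank at most two.** -/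
theorem rank_le {m : ℕ} (hm0 : 0 < m) (hm4 : m ≠ 4) (hl : l < m.totient + 3) {u : Fin l → ℤ} (hu : u ≠ 0)
    (hu' : aeval T (cyclotomic m ℤ) u = 0) (v y : Fin l → ℤ) (hv : T (T v) = -v) (hy : T (T y) = -y) (hv0 : v ≠ 0) :
    ∃ a b c : ℤ, c ≠ 0 ∧ c • y = a • v + b • T v := by
  set S := toQ T with hS
  have huQ := aeval_vq hu'
  have huQ0 : vq u ≠ 0 := fun h => hu (vq_eq_zero.1 h)
  set K4 := LinearMap.ker (aeval S (cyclotomic 4 ℚ)) with hK4
  set Km := LinearMap.ker (aeval S (cyclotomic m ℚ)) with hKm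
  have hdis : Disjoint K4 Km := by
    rw [Submodule.disjoint_def]
    intro x h1 h2
    refine eq_zero_of_coprime ?_ (LinearMap.mem_ker.1 h1) (LinearMap.mem_ker.1 h2)
    exact cyclotomic.isCoprime_rat (Ne.symm hm4)
  have hge : m.totient ≤ finrank ℚ Km := by
    have h1 := finrank_ker_ge (indepQ hm0 huQ0 huQ) (K := Km) fun i => LinearMap.mem_ker.2 (aeval_pow_mem huQ _)
    rwa [Fintype.card_fin] at h1
  have hsum : finrank ℚ K4 + finrank ℚ Km ≤ l := by
    have h1 := Submodule.finrank_add_finrank_le_of_disjoint hdis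
    rwa [Module.finrank_fin_fun] at h1
  have h42 : finrank ℚ K4 ≤ 2 := by omega
  have hmem : ∀ x : Fin l → ℤ, T (T x) = -x → vq x ∈ K4 := by
    intro x hx
    rw [hK4, LinearMap.mem_ker, cyc4Q, map_add, map_pow, aeval_X, map_one, LinearMap.add_apply, pow_two,
      Module.End.mul_apply, Module.End.one_apply, hS, toQ_vq, toQ_vq, hx]
    funext i
    simp [vq]
  have hTv : T (T (T v)) = - T v := by rw [hv, map_neg]
  have hind : LinearIndependent ℚ ![vq v, vq (T v)] := by
    have h1 := indepQ (T := S) (m := 4) (by norm_num) (v := vq v) (fun h => hv0 (vq_eq_zero.1 h))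
      (LinearMap.mem_ker.1 (hmem v hv))
    have h2 : (Nat.totient 4) = 2 := by decide
    rw [← linearIndependent_equiv (finCongr h2).symm] at h1
    convert h1 using 1
    funext i
    fin_cases i
    · simp
    · show vq (T v) = _
      rw [← toQ_vq]
      simp [finCongr, hS]
  have hyspan : vq y ∈ Submodule.span ℚ (Set.range ![vq v, vq (T v)]) := by
    by_contra hcon
    have h3 : LinearIndependent ℚ (Fin.cons (vq y) ![vq v, vq (T v)] : Fin 3 → Fin l → ℚ) :=
      linearIndependent_finCons.2 ⟨hind, hcon⟩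
    have h4 := finrank_ker_ge h3 (K := K4) (by
      intro i
      fin_cases i
      · exact hmem y hy
      · exact hmem v hv
      · exact hmem (T v) hTv)
    rw [Fintype.card_fin] at h4
    omega
  have hrange : Set.range ![vq v, vq (T v)] = {vq v, vq (T v)} := Matrix.range_cons_cons_empty _ _ _
  rw [hrange, Submodule.mem_span_pair] at hyspan
  obtain ⟨a, b, hab⟩ := hyspan
  refine ⟨a.num * b.den, b.num * a.den, a.den * b.den, ?_, ?_⟩
  · exact mul_ne_zero (by exact_mod_cast a.den_ne_zero) (by exact_mod_cast b.den_ne_zero)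
  · funext i
    have h5 := congrFun hab i
    simp only [Pi.add_apply, Pi.smul_apply, smul_eq_mul, vq] at h5 ⊢
    have ha : a * a.den = a.num := Rat.mul_den_eq_num a
    have hb : b * b.den = b.num := Rat.mul_den_eq_num b
    have h6 : ((a.den : ℚ) * b.den) * (y i : ℚ) = (a.num * b.den) * (v i : ℚ) + (b.num * a.den) * (T v i : ℚ) := by
      rw [← h5, ← ha, ← hb]
      ring
    exact_mod_cast h6

end Rank

end Cfsg.Agent.H413.E8.Lat
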