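import Cfsg.Agent.H378.AdjE8

/-!
# Weyl group elements of type E8 with the eigenvalues of order `e` and 2, and of order `e` and 1 (helper413, S3636)
-/

set_option autoImplicit false

namespace Cfsg.Agent.H413.E8.TabTwo

open Cfsg.Agent.H129.WData Cfsg.Agent.H378.AdjTab Cfsg.Agent.H378.CycTab Cfsg.Agent.H493.PGTorus
open Cfsg.Agent.ChevalleyStructure.CoxeterGeomTypes Cfsg.Agent.Nodes.RGDChev
open Cfsg.Lie Cfsg.Lie.ChevalleyDatum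
open Cfsg.Agent.H378.AdjE8 (Am hi)

/-- the functional for the highest root -/
def U1 : Fin 8 → ℤ := ![-1, 1, 0, 0, 0, 0, 0, 0]

/-- the eigenvector of order 1 -/
def V1 : Fin (0 + 1) → Fin 8 → ℤ := ![hi]

theorem one {L : List (Fin 8 × Mat 8)} (h : ∀ m, ∑ j, hi j * hd L j m = hi m) : EigOK (hd L) c1 V1 U1 := by
  refine ⟨fun m => ?_, fun i => i.elim0, fun i => ?_⟩
  · show ∑ j, hi j * hd L j m = -(-1) * hi m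
    rw [h m]
    ring
  · revert i
    decide +kernel

/-- the partial products -/
def T3 : List (Fin 8 × Mat 8) := [
    (0, ![![0, 0, 1, 0, 0, 0, 0, 0],
        ![0, 1, 0, 0, 0, 0, 0, 0],
        ![-1, 0, -1, 0, 0, 0, 0, 0],
        ![1, 0, 1, 1, 1, 0, 0, 0],
        ![0, 0, 0, 0, -1, 0, 0, 0],
        ![0, 0, 0, 0, 1, 1, 0, 0],
        ![0, 0, 0, 0, 0, 0, 1, 0],
        ![0, 0, 0, 0, 0, 0, 0, 1]]),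
    (2, ![![1, 0, 1, 0, 0, 0, 0, 0],
        ![0, 1, 0, 0, 0, 0, 0, 0],
        ![0, 0, -1, 0, 0, 0, 0, 0],
        ![0, 0, 1, 1, 1, 0, 0, 0],
        ![0, 0, 0, 0, -1, 0, 0, 0],
        ![0, 0, 0, 0, 1, 1, 0, 0],
        ![0, 0, 0, 0, 0, 0, 1, 0],
        ![0, 0, 0, 0, 0, 0, 0, 1]]),
    (4, ![![1, 0, 0, 0, 0, 0, 0, 0],
        ![0, 1, 0, 0, 0, 0, 0, 0],
        ![0, 0, 1, 0, 0, 0, 0, 0],
        ![0, 0, 0, 1, 1, 0, 0, 0],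
        ![0, 0, 0, 0, -1, 0, 0, 0],
        ![0, 0, 0, 0, 1, 1, 0, 0],
        ![0, 0, 0, 0, 0, 0, 1, 0],
        ![0, 0, 0, 0, 0, 0, 0, 1]])]

theorem chain3 : ChainOK Am T3 := by decide +kernel

theorem eig3_3 : EigOK (hd T3) c3 (f := 1) ![![1, 0, 0, 0, 0, 0, 0, 0],
      ![0, 0, -1, 0, 0, 0, 0, 0]]
    ![1, 0, 0, 0, 0, 0, 0, 0] := by decide +kernel

theorem eig3_2 : EigOK (hd T3) c2 (f := 0) ![![0, 0, 0, 0, -1, 0, 0, 0]]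
    ![0, 0, 0, 0, -1, 0, 0, 0] := by decide +kernel

/-- the partial products -/
def T4 : List (Fin 8 × Mat 8) := [
    (0, ![![0, 0, 1, 0, 0, 0, 0, 0],
        ![1, 1, 1, 1, 0, 0, 0, 0],
        ![0, 0, 0, 1, 0, 0, 0, 0],
        ![-1, 0, -1, -1, 0, 0, 0, 0],
        ![1, 0, 1, 1, 1, 0, 0, 0],
        ![0, 0, 0, 0, 0, 1, 0, 0],
        ![0, 0, 0, 0, 0, 0, 1, 0],
        ![0, 0, 0, 0, 0, 0, 0, 1]]),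
    (2, ![![1, 0, 1, 0, 0, 0, 0, 0],
        ![0, 1, 1, 1, 0, 0, 0, 0],
        ![0, 0, 0, 1, 0, 0, 0, 0],
        ![0, 0, -1, -1, 0, 0, 0, 0],
        ![0, 0, 1, 1, 1, 0, 0, 0],
        ![0, 0, 0, 0, 0, 1, 0, 0],
        ![0, 0, 0, 0, 0, 0, 1, 0],
        ![0, 0, 0, 0, 0, 0, 0, 1]]),
    (3, ![![1, 0, 0, 0, 0, 0, 0, 0],
        ![0, 1, 0, 1, 0, 0, 0, 0],
        ![0, 0, 1, 1, 0, 0, 0, 0],
        ![0, 0, 0, -1, 0, 0, 0, 0],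
        ![0, 0, 0, 1, 1, 0, 0, 0],
        ![0, 0, 0, 0, 0, 1, 0, 0],
        ![0, 0, 0, 0, 0, 0, 1, 0],
        ![0, 0, 0, 0, 0, 0, 0, 1]])]

theorem chain4 : ChainOK Am T4 := by decide +kernel

theorem eig4_4 : EigOK (hd T4) c4 (f := 1) ![![1, 0, 1, 0, 0, 0, 0, 0],
      ![0, 0, -1, -1, 0, 0, 0, 0]]
    ![1, 0, 0, 0, 0, 0, 0, 0] := by decide +kernel

theorem eig4_2 : EigOK (hd T4) c2 (f := 0) ![![1, 0, 0, 1, 0, 0, 0, 0]]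
    ![1, 0, 0, 0, 0, 0, 0, 0] := by decide +kernel

/-- the partial products -/
def T5 : List (Fin 8 × Mat 8) := [
    (0, ![![0, 0, 1, 0, 0, 0, 0, 0],
        ![1, 1, 1, 1, 0, 0, 0, 0],
        ![0, 0, 0, 1, 0, 0, 0, 0],
        ![0, 0, 0, 0, 1, 0, 0, 0],
        ![-1, 0, -1, -1, -1, 0, 0, 0],
        ![1, 0, 1, 1, 1, 1, 1, 0],
        ![0, 0, 0, 0, 0, 0, -1, 0],
        ![0, 0, 0, 0, 0, 0, 1, 1]]),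
    (2, ![![1, 0, 1, 0, 0, 0, 0, 0],
        ![0, 1, 1, 1, 0, 0, 0, 0],
        ![0, 0, 0, 1, 0, 0, 0, 0],
        ![0, 0, 0, 0, 1, 0, 0, 0],
        ![0, 0, -1, -1, -1, 0, 0, 0],
        ![0, 0, 1, 1, 1, 1, 1, 0],
        ![0, 0, 0, 0, 0, 0, -1, 0],
        ![0, 0, 0, 0, 0, 0, 1, 1]]),
    (3, ![![1, 0, 0, 0, 0, 0, 0, 0],
        ![0, 1, 0, 1, 0, 0, 0, 0],
        ![0, 0, 1, 1, 0, 0, 0, 0],
        ![0, 0, 0, 0, 1, 0, 0, 0],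
        ![0, 0, 0, -1, -1, 0, 0, 0],
        ![0, 0, 0, 1, 1, 1, 1, 0],
        ![0, 0, 0, 0, 0, 0, -1, 0],
        ![0, 0, 0, 0, 0, 0, 1, 1]]),
    (4, ![![1, 0, 0, 0, 0, 0, 0, 0],
        ![0, 1, 0, 0, 0, 0, 0, 0],
        ![0, 0, 1, 0, 0, 0, 0, 0],
        ![0, 0, 0, 1, 1, 0, 0, 0],
        ![0, 0, 0, 0, -1, 0, 0, 0],
        ![0, 0, 0, 0, 1, 1, 1, 0],
        ![0, 0, 0, 0, 0, 0, -1, 0],
        ![0, 0, 0, 0, 0, 0, 1, 1]]),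
    (6, ![![1, 0, 0, 0, 0, 0, 0, 0],
        ![0, 1, 0, 0, 0, 0, 0, 0],
        ![0, 0, 1, 0, 0, 0, 0, 0],
        ![0, 0, 0, 1, 0, 0, 0, 0],
        ![0, 0, 0, 0, 1, 0, 0, 0],
        ![0, 0, 0, 0, 0, 1, 1, 0],
        ![0, 0, 0, 0, 0, 0, -1, 0],
        ![0, 0, 0, 0, 0, 0, 1, 1]])]

theorem chain5 : ChainOK Am T5 := by decide +kernel

theorem eig5_5 : EigOK (hd T5) c5 (f := 3) ![![-1, 0, 0, -1, 0, 0, 0, 0],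
      ![0, 0, 0, 0, 1, 0, 0, 0],
      ![-1, 0, 0, 0, 0, 0, 0, 0],
      ![0, 0, 1, 0, 1, 0, 0, 0]]
    ![0, 0, 0, -1, 0, 0, 0, 0] := by decide +kernel

theorem eig5_2 : EigOK (hd T5) c2 (f := 0) ![![0, 0, 0, 0, 0, 0, -1, 0]]
    ![0, 0, 0, 0, 0, 0, -1, 0] := by decide +kernel

/-- the partial products -/
def T6 : List (Fin 8 × Mat 8) := [
    (1, ![![1, 0, 1, 0, 0, 0, 0, 0],
        ![0, 0, 1, 1, 0, 0, 0, 0],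
        ![0, 1, 0, 1, 0, 0, 0, 0],
        ![0, 0, 0, 0, 1, 0, 0, 0],
        ![0, -1, -1, -1, -1, 0, 0, 0],
        ![0, 1, 1, 1, 1, 1, 0, 0],
        ![0, 0, 0, 0, 0, 0, 1, 0],
        ![0, 0, 0, 0, 0, 0, 0, 1]]),
    (2, ![![1, 0, 1, 0, 0, 0, 0, 0],
        ![0, 1, 1, 1, 0, 0, 0, 0],
        ![0, 0, 0, 1, 0, 0, 0, 0],
        ![0, 0, 0, 0, 1, 0, 0, 0],
        ![0, 0, -1, -1, -1, 0, 0, 0],
        ![0, 0, 1, 1, 1, 1, 0, 0],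
        ![0, 0, 0, 0, 0, 0, 1, 0],
        ![0, 0, 0, 0, 0, 0, 0, 1]]),
    (3, ![![1, 0, 0, 0, 0, 0, 0, 0],
        ![0, 1, 0, 1, 0, 0, 0, 0],
        ![0, 0, 1, 1, 0, 0, 0, 0],
        ![0, 0, 0, 0, 1, 0, 0, 0],
        ![0, 0, 0, -1, -1, 0, 0, 0],
        ![0, 0, 0, 1, 1, 1, 0, 0],
        ![0, 0, 0, 0, 0, 0, 1, 0],
        ![0, 0, 0, 0, 0, 0, 0, 1]]),
    (4, ![![1, 0, 0, 0, 0, 0, 0, 0],
        ![0, 1, 0, 0, 0, 0, 0, 0],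
        ![0, 0, 1, 0, 0, 0, 0, 0],
        ![0, 0, 0, 1, 1, 0, 0, 0],
        ![0, 0, 0, 0, -1, 0, 0, 0],
        ![0, 0, 0, 0, 1, 1, 0, 0],
        ![0, 0, 0, 0, 0, 0, 1, 0],
        ![0, 0, 0, 0, 0, 0, 0, 1]])]

theorem chain6 : ChainOK Am T6 := by decide +kernel

theorem eig6_6 : EigOK (hd T6) c6 (f := 1) ![![0, 0, 0, -1, -1, 0, 0, 0],
      ![0, -1, -1, -1, 0, 0, 0, 0]]
    ![0, 1, 0, -1, 0, 0, 0, 0] := by decide +kernel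

theorem eig6_2 : EigOK (hd T6) c2 (f := 0) ![![0, 1, 0, 0, 1, 0, 0, 0]]
    ![0, 1, 0, 0, 0, 0, 0, 0] := by decide +kernel

/-- the partial products -/
def T7 : List (Fin 8 × Mat 8) := [
    (1, ![![-1, 0, 0, 0, 0, 0, 0, 0],
        ![0, 0, 0, 1, 0, 0, 0, 0],
        ![1, 1, 1, 1, 0, 0, 0, 0],
        ![0, 0, 0, 0, 1, 0, 0, 0],
        ![0, 0, 0, 0, 0, 1, 0, 0],
        ![0, 0, 0, 0, 0, 0, 1, 0],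
        ![0, 0, 0, 0, 0, 0, 0, 1],
        ![0, -1, 0, -1, -1, -1, -1, -1]]),
    (3, ![![-1, 0, 0, 0, 0, 0, 0, 0],
        ![0, 1, 0, 1, 0, 0, 0, 0],
        ![1, 0, 1, 1, 0, 0, 0, 0],
        ![0, 0, 0, 0, 1, 0, 0, 0],
        ![0, 0, 0, 0, 0, 1, 0, 0],
        ![0, 0, 0, 0, 0, 0, 1, 0],
        ![0, 0, 0, 0, 0, 0, 0, 1],
        ![0, 0, 0, -1, -1, -1, -1, -1]]),
    (4, ![![-1, 0, 0, 0, 0, 0, 0, 0],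
        ![0, 1, 0, 0, 0, 0, 0, 0],
        ![1, 0, 1, 0, 0, 0, 0, 0],
        ![0, 0, 0, 1, 1, 0, 0, 0],
        ![0, 0, 0, 0, 0, 1, 0, 0],
        ![0, 0, 0, 0, 0, 0, 1, 0],
        ![0, 0, 0, 0, 0, 0, 0, 1],
        ![0, 0, 0, 0, -1, -1, -1, -1]]),
    (5, ![![-1, 0, 0, 0, 0, 0, 0, 0],
        ![0, 1, 0, 0, 0, 0, 0, 0],
        ![1, 0, 1, 0, 0, 0, 0, 0],
        ![0, 0, 0, 1, 0, 0, 0, 0],
        ![0, 0, 0, 0, 1, 1, 0, 0],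
        ![0, 0, 0, 0, 0, 0, 1, 0],
        ![0, 0, 0, 0, 0, 0, 0, 1],
        ![0, 0, 0, 0, 0, -1, -1, -1]]),
    (6, ![![-1, 0, 0, 0, 0, 0, 0, 0],
        ![0, 1, 0, 0, 0, 0, 0, 0],
        ![1, 0, 1, 0, 0, 0, 0, 0],
        ![0, 0, 0, 1, 0, 0, 0, 0],
        ![0, 0, 0, 0, 1, 0, 0, 0],
        ![0, 0, 0, 0, 0, 1, 1, 0],
        ![0, 0, 0, 0, 0, 0, 0, 1],
        ![0, 0, 0, 0, 0, 0, -1, -1]]),
    (7, ![![-1, 0, 0, 0, 0, 0, 0, 0],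
        ![0, 1, 0, 0, 0, 0, 0, 0],
        ![1, 0, 1, 0, 0, 0, 0, 0],
        ![0, 0, 0, 1, 0, 0, 0, 0],
        ![0, 0, 0, 0, 1, 0, 0, 0],
        ![0, 0, 0, 0, 0, 1, 0, 0],
        ![0, 0, 0, 0, 0, 0, 1, 1],
        ![0, 0, 0, 0, 0, 0, 0, -1]]),
    (0, ![![-1, 0, 0, 0, 0, 0, 0, 0],
        ![0, 1, 0, 0, 0, 0, 0, 0],
        ![1, 0, 1, 0, 0, 0, 0, 0],
        ![0, 0, 0, 1, 0, 0, 0, 0],
        ![0, 0, 0, 0, 1, 0, 0, 0],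
        ![0, 0, 0, 0, 0, 1, 0, 0],
        ![0, 0, 0, 0, 0, 0, 1, 0],
        ![0, 0, 0, 0, 0, 0, 0, 1]])]

theorem chain7 : ChainOK Am T7 := by decide +kernel

theorem eig7_7 : EigOK (hd T7) c7 (f := 5) ![![0, -1, 0, -1, 0, -1, 0, -1],
      ![0, -1, 0, 0, 0, 0, 0, 0],
      ![0, 0, 0, 0, 1, 0, 1, 0],
      ![0, -1, 0, 0, 0, 0, 0, -1],
      ![0, 0, 0, 0, 1, 0, 0, 0],
      ![0, -1, 0, 0, 0, -1, 0, -1]]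
    ![0, 0, 0, -1, 0, 0, 0, 0] := by decide +kernel

theorem eig7_2 : EigOK (hd T7) c2 (f := 0) ![![1, 0, 0, 0, 0, 0, 0, 0]]
    ![1, 0, 0, 0, 0, 0, 0, 0] := by decide +kernel

/-- the partial products -/
def T8 : List (Fin 8 × Mat 8) := [
    (0, ![![0, 0, 1, 0, 0, 0, 0, 0],
        ![1, 1, 1, 1, 0, 0, 0, 0],
        ![0, 0, 0, 1, 0, 0, 0, 0],
        ![0, 0, 0, 0, 1, 0, 0, 0],
        ![0, 0, 0, 0, 0, 1, 0, 0],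
        ![0, 0, 0, 0, 0, 0, 1, 0],
        ![0, 0, 0, 0, 0, 0, 0, 1],
        ![-1, 0, -1, -1, -1, -1, -1, -1]]),
    (2, ![![1, 0, 1, 0, 0, 0, 0, 0],
        ![0, 1, 1, 1, 0, 0, 0, 0],
        ![0, 0, 0, 1, 0, 0, 0, 0],
        ![0, 0, 0, 0, 1, 0, 0, 0],
        ![0, 0, 0, 0, 0, 1, 0, 0],
        ![0, 0, 0, 0, 0, 0, 1, 0],
        ![0, 0, 0, 0, 0, 0, 0, 1],
        ![0, 0, -1, -1, -1, -1, -1, -1]]),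
    (3, ![![1, 0, 0, 0, 0, 0, 0, 0],
        ![0, 1, 0, 1, 0, 0, 0, 0],
        ![0, 0, 1, 1, 0, 0, 0, 0],
        ![0, 0, 0, 0, 1, 0, 0, 0],
        ![0, 0, 0, 0, 0, 1, 0, 0],
        ![0, 0, 0, 0, 0, 0, 1, 0],
        ![0, 0, 0, 0, 0, 0, 0, 1],
        ![0, 0, 0, -1, -1, -1, -1, -1]]),
    (4, ![![1, 0, 0, 0, 0, 0, 0, 0],
        ![0, 1, 0, 0, 0, 0, 0, 0],
        ![0, 0, 1, 0, 0, 0, 0, 0],
        ![0, 0, 0, 1, 1, 0, 0, 0],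
        ![0, 0, 0, 0, 0, 1, 0, 0],
        ![0, 0, 0, 0, 0, 0, 1, 0],
        ![0, 0, 0, 0, 0, 0, 0, 1],
        ![0, 0, 0, 0, -1, -1, -1, -1]]),
    (5, ![![1, 0, 0, 0, 0, 0, 0, 0],
        ![0, 1, 0, 0, 0, 0, 0, 0],
        ![0, 0, 1, 0, 0, 0, 0, 0],
        ![0, 0, 0, 1, 0, 0, 0, 0],
        ![0, 0, 0, 0, 1, 1, 0, 0],
        ![0, 0, 0, 0, 0, 0, 1, 0],
        ![0, 0, 0, 0, 0, 0, 0, 1],
        ![0, 0, 0, 0, 0, -1, -1, -1]]),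
    (6, ![![1, 0, 0, 0, 0, 0, 0, 0],
        ![0, 1, 0, 0, 0, 0, 0, 0],
        ![0, 0, 1, 0, 0, 0, 0, 0],
        ![0, 0, 0, 1, 0, 0, 0, 0],
        ![0, 0, 0, 0, 1, 0, 0, 0],
        ![0, 0, 0, 0, 0, 1, 1, 0],
        ![0, 0, 0, 0, 0, 0, 0, 1],
        ![0, 0, 0, 0, 0, 0, -1, -1]]),
    (7, ![![1, 0, 0, 0, 0, 0, 0, 0],
        ![0, 1, 0, 0, 0, 0, 0, 0],
        ![0, 0, 1, 0, 0, 0, 0, 0],
        ![0, 0, 0, 1, 0, 0, 0, 0],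
        ![0, 0, 0, 0, 1, 0, 0, 0],
        ![0, 0, 0, 0, 0, 1, 0, 0],
        ![0, 0, 0, 0, 0, 0, 1, 1],
        ![0, 0, 0, 0, 0, 0, 0, -1]])]

theorem chain8 : ChainOK Am T8 := by decide +kernel

theorem eig8_8 : EigOK (hd T8) c8 (f := 3) ![![-1, 0, -1, -1, -1, 0, 0, 0],
      ![0, 0, 0, 0, 1, 1, 1, 1],
      ![0, 0, 0, 1, 1, 1, 1, 0],
      ![0, 0, 1, 1, 1, 1, 0, 0]]
    ![-1, 0, 0, 0, 0, 0, 0, 0] := by decide +kernel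

theorem eig8_2 : EigOK (hd T8) c2 (f := 0) ![![-1, 0, 0, -1, 0, -1, 0, -1]]
    ![-1, 0, 0, 0, 0, 0, 0, 0] := by decide +kernel

/-- the partial products -/
def T9 : List (Fin 8 × Mat 8) := [
    (5, ![![-1, 0, -1, -1, -1, -1, 0, 0],
        ![0, 0, -1, 0, 0, 0, 0, 0],
        ![1, 1, 1, 1, 1, 1, 0, 0],
        ![0, -1, 0, -1, -1, -1, 0, 0],
        ![0, 1, 1, 2, 1, 1, 0, 0],
        ![0, 0, 0, 0, 1, 0, 0, 0],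
        ![0, 0, 0, 0, 0, 1, 1, 1],
        ![0, 0, 0, 0, 0, 0, 0, -1]]),
    (4, ![![-1, 0, -1, -1, -1, 0, 0, 0],
        ![0, 0, -1, 0, 0, 0, 0, 0],
        ![1, 1, 1, 1, 1, 0, 0, 0],
        ![0, -1, 0, -1, -1, 0, 0, 0],
        ![0, 1, 1, 2, 1, 0, 0, 0],
        ![0, 0, 0, 0, 1, 1, 0, 0],
        ![0, 0, 0, 0, 0, 0, 1, 1],
        ![0, 0, 0, 0, 0, 0, 0, -1]]),
    (3, ![![-1, 0, -1, -1, 0, 0, 0, 0],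
        ![0, 0, -1, 0, 0, 0, 0, 0],
        ![1, 1, 1, 1, 0, 0, 0, 0],
        ![0, -1, 0, -1, 0, 0, 0, 0],
        ![0, 1, 1, 2, 1, 0, 0, 0],
        ![0, 0, 0, 0, 0, 1, 0, 0],
        ![0, 0, 0, 0, 0, 0, 1, 1],
        ![0, 0, 0, 0, 0, 0, 0, -1]]),
    (2, ![![-1, 0, -1, 0, 0, 0, 0, 0],
        ![0, 0, -1, -1, 0, 0, 0, 0],
        ![1, 1, 1, 1, 0, 0, 0, 0],
        ![0, -1, 0, 0, 0, 0, 0, 0],
        ![0, 1, 1, 1, 1, 0, 0, 0],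
        ![0, 0, 0, 0, 0, 1, 0, 0],
        ![0, 0, 0, 0, 0, 0, 1, 1],
        ![0, 0, 0, 0, 0, 0, 0, -1]]),
    (1, ![![-1, 0, 0, 0, 0, 0, 0, 0],
        ![0, 0, 0, -1, 0, 0, 0, 0],
        ![1, 1, 1, 1, 0, 0, 0, 0],
        ![0, -1, 0, 0, 0, 0, 0, 0],
        ![0, 1, 0, 1, 1, 0, 0, 0],
        ![0, 0, 0, 0, 0, 1, 0, 0],
        ![0, 0, 0, 0, 0, 0, 1, 1],
        ![0, 0, 0, 0, 0, 0, 0, -1]]),
    (0, ![![-1, 0, 0, 0, 0, 0, 0, 0],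
        ![0, -1, 0, -1, 0, 0, 0, 0],
        ![1, 0, 1, 1, 0, 0, 0, 0],
        ![0, 1, 0, 0, 0, 0, 0, 0],
        ![0, 0, 0, 1, 1, 0, 0, 0],
        ![0, 0, 0, 0, 0, 1, 0, 0],
        ![0, 0, 0, 0, 0, 0, 1, 1],
        ![0, 0, 0, 0, 0, 0, 0, -1]]),
    (3, ![![1, 0, 0, 0, 0, 0, 0, 0],
        ![0, -1, 0, -1, 0, 0, 0, 0],
        ![0, 0, 1, 1, 0, 0, 0, 0],
        ![0, 1, 0, 0, 0, 0, 0, 0],
        ![0, 0, 0, 1, 1, 0, 0, 0],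
        ![0, 0, 0, 0, 0, 1, 0, 0],
        ![0, 0, 0, 0, 0, 0, 1, 1],
        ![0, 0, 0, 0, 0, 0, 0, -1]]),
    (1, ![![1, 0, 0, 0, 0, 0, 0, 0],
        ![0, -1, 0, 0, 0, 0, 0, 0],
        ![0, 0, 1, 0, 0, 0, 0, 0],
        ![0, 1, 0, 1, 0, 0, 0, 0],
        ![0, 0, 0, 0, 1, 0, 0, 0],
        ![0, 0, 0, 0, 0, 1, 0, 0],
        ![0, 0, 0, 0, 0, 0, 1, 1],
        ![0, 0, 0, 0, 0, 0, 0, -1]]),
    (7, ![![1, 0, 0, 0, 0, 0, 0, 0],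
        ![0, 1, 0, 0, 0, 0, 0, 0],
        ![0, 0, 1, 0, 0, 0, 0, 0],
        ![0, 0, 0, 1, 0, 0, 0, 0],
        ![0, 0, 0, 0, 1, 0, 0, 0],
        ![0, 0, 0, 0, 0, 1, 0, 0],
        ![0, 0, 0, 0, 0, 0, 1, 1],
        ![0, 0, 0, 0, 0, 0, 0, -1]])]

theorem chain9 : ChainOK Am T9 := by decide +kernel

theorem eig9_9 : EigOK (hd T9) c9 (f := 5) ![![0, 0, -1, -1, 0, 0, 0, 0],
      ![0, 0, 0, -1, -1, 0, 0, 0],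
      ![0, -1, 0, -1, -1, -1, 0, 0],
      ![0, 0, -1, 0, 0, 0, 0, 0],
      ![0, 1, 0, 0, 0, 0, 0, 0],
      ![1, 0, 1, 0, 0, 0, 0, 0]]
    ![0, 0, 0, -1, 1, 0, 0, 0] := by decide +kernel

theorem eig9_2 : EigOK (hd T9) c2 (f := 0) ![![0, 0, 0, 0, 0, 0, 0, 1]]
    ![0, 0, 0, 0, 0, 0, 0, 1] := by decide +kernel

/-- the partial products -/
def T10 : List (Fin 8 × Mat 8) := [
    (1, ![![1, 0, 1, 0, 0, 0, 0, 0],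
        ![0, 0, 1, 1, 0, 0, 0, 0],
        ![0, 1, 0, 1, 0, 0, 0, 0],
        ![0, 0, 0, 0, 1, 0, 0, 0],
        ![0, 0, 0, 0, 0, 1, 0, 0],
        ![0, 0, 0, 0, 0, 0, 1, 0],
        ![0, -1, -1, -1, -1, -1, -1, 0],
        ![0, 1, 1, 1, 1, 1, 1, 1]]),
    (2, ![![1, 0, 1, 0, 0, 0, 0, 0],
        ![0, 1, 1, 1, 0, 0, 0, 0],
        ![0, 0, 0, 1, 0, 0, 0, 0],
        ![0, 0, 0, 0, 1, 0, 0, 0],
        ![0, 0, 0, 0, 0, 1, 0, 0],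
        ![0, 0, 0, 0, 0, 0, 1, 0],
        ![0, 0, -1, -1, -1, -1, -1, 0],
        ![0, 0, 1, 1, 1, 1, 1, 1]]),
    (3, ![![1, 0, 0, 0, 0, 0, 0, 0],
        ![0, 1, 0, 1, 0, 0, 0, 0],
        ![0, 0, 1, 1, 0, 0, 0, 0],
        ![0, 0, 0, 0, 1, 0, 0, 0],
        ![0, 0, 0, 0, 0, 1, 0, 0],
        ![0, 0, 0, 0, 0, 0, 1, 0],
        ![0, 0, 0, -1, -1, -1, -1, 0],
        ![0, 0, 0, 1, 1, 1, 1, 1]]),
    (4, ![![1, 0, 0, 0, 0, 0, 0, 0],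
        ![0, 1, 0, 0, 0, 0, 0, 0],
        ![0, 0, 1, 0, 0, 0, 0, 0],
        ![0, 0, 0, 1, 1, 0, 0, 0],
        ![0, 0, 0, 0, 0, 1, 0, 0],
        ![0, 0, 0, 0, 0, 0, 1, 0],
        ![0, 0, 0, 0, -1, -1, -1, 0],
        ![0, 0, 0, 0, 1, 1, 1, 1]]),
    (5, ![![1, 0, 0, 0, 0, 0, 0, 0],
        ![0, 1, 0, 0, 0, 0, 0, 0],
        ![0, 0, 1, 0, 0, 0, 0, 0],
        ![0, 0, 0, 1, 0, 0, 0, 0],
        ![0, 0, 0, 0, 1, 1, 0, 0],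
        ![0, 0, 0, 0, 0, 0, 1, 0],
        ![0, 0, 0, 0, 0, -1, -1, 0],
        ![0, 0, 0, 0, 0, 1, 1, 1]]),
    (6, ![![1, 0, 0, 0, 0, 0, 0, 0],
        ![0, 1, 0, 0, 0, 0, 0, 0],
        ![0, 0, 1, 0, 0, 0, 0, 0],
        ![0, 0, 0, 1, 0, 0, 0, 0],
        ![0, 0, 0, 0, 1, 0, 0, 0],
        ![0, 0, 0, 0, 0, 1, 1, 0],
        ![0, 0, 0, 0, 0, 0, -1, 0],
        ![0, 0, 0, 0, 0, 0, 1, 1]])]

theorem chain10 : ChainOK Am T10 := by decide +kernel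

theorem eig10_10 : EigOK (hd T10) c10 (f := 3) ![![0, 0, 0, 1, 1, 0, 0, 0],
      ![0, 1, 1, 1, 0, 1, 1, 0],
      ![0, 0, 0, 0, 1, 0, -1, 0],
      ![0, 0, 0, 0, -1, -1, 0, 0]]
    ![0, -1, 0, 1, 0, 0, 0, 0] := by decide +kernel

theorem eig10_2 : EigOK (hd T10) c2 (f := 0) ![![0, 1, -1, 0, 0, 0, 0, 0]]
    ![0, 1, 0, 0, 0, 0, 0, 0] := by decide +kernel

/-- the partial products -/
def T12 : List (Fin 8 × Mat 8) := [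
    (0, ![![0, 0, 1, 0, 0, 0, 0, 0],
        ![1, 0, 1, 1, 0, 0, 0, 0],
        ![0, 1, 0, 1, 0, 0, 0, 0],
        ![0, 0, 0, 0, 1, 0, 0, 0],
        ![0, 0, 0, 0, 0, 1, 0, 0],
        ![-1, -1, -1, -1, -1, -1, 0, 0],
        ![1, 1, 1, 1, 1, 1, 1, 1],
        ![0, 0, 0, 0, 0, 0, 0, -1]]),
    (1, ![![1, 0, 1, 0, 0, 0, 0, 0],
        ![0, 0, 1, 1, 0, 0, 0, 0],
        ![0, 1, 0, 1, 0, 0, 0, 0],
        ![0, 0, 0, 0, 1, 0, 0, 0],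
        ![0, 0, 0, 0, 0, 1, 0, 0],
        ![0, -1, -1, -1, -1, -1, 0, 0],
        ![0, 1, 1, 1, 1, 1, 1, 1],
        ![0, 0, 0, 0, 0, 0, 0, -1]]),
    (2, ![![1, 0, 1, 0, 0, 0, 0, 0],
        ![0, 1, 1, 1, 0, 0, 0, 0],
        ![0, 0, 0, 1, 0, 0, 0, 0],
        ![0, 0, 0, 0, 1, 0, 0, 0],
        ![0, 0, 0, 0, 0, 1, 0, 0],
        ![0, 0, -1, -1, -1, -1, 0, 0],
        ![0, 0, 1, 1, 1, 1, 1, 1],
        ![0, 0, 0, 0, 0, 0, 0, -1]]),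
    (3, ![![1, 0, 0, 0, 0, 0, 0, 0],
        ![0, 1, 0, 1, 0, 0, 0, 0],
        ![0, 0, 1, 1, 0, 0, 0, 0],
        ![0, 0, 0, 0, 1, 0, 0, 0],
        ![0, 0, 0, 0, 0, 1, 0, 0],
        ![0, 0, 0, -1, -1, -1, 0, 0],
        ![0, 0, 0, 1, 1, 1, 1, 1],
        ![0, 0, 0, 0, 0, 0, 0, -1]]),
    (4, ![![1, 0, 0, 0, 0, 0, 0, 0],
        ![0, 1, 0, 0, 0, 0, 0, 0],
        ![0, 0, 1, 0, 0, 0, 0, 0],
        ![0, 0, 0, 1, 1, 0, 0, 0],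
        ![0, 0, 0, 0, 0, 1, 0, 0],
        ![0, 0, 0, 0, -1, -1, 0, 0],
        ![0, 0, 0, 0, 1, 1, 1, 1],
        ![0, 0, 0, 0, 0, 0, 0, -1]]),
    (5, ![![1, 0, 0, 0, 0, 0, 0, 0],
        ![0, 1, 0, 0, 0, 0, 0, 0],
        ![0, 0, 1, 0, 0, 0, 0, 0],
        ![0, 0, 0, 1, 0, 0, 0, 0],
        ![0, 0, 0, 0, 1, 1, 0, 0],
        ![0, 0, 0, 0, 0, -1, 0, 0],
        ![0, 0, 0, 0, 0, 1, 1, 1],
        ![0, 0, 0, 0, 0, 0, 0, -1]]),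
    (7, ![![1, 0, 0, 0, 0, 0, 0, 0],
        ![0, 1, 0, 0, 0, 0, 0, 0],
        ![0, 0, 1, 0, 0, 0, 0, 0],
        ![0, 0, 0, 1, 0, 0, 0, 0],
        ![0, 0, 0, 0, 1, 0, 0, 0],
        ![0, 0, 0, 0, 0, 1, 0, 0],
        ![0, 0, 0, 0, 0, 0, 1, 1],
        ![0, 0, 0, 0, 0, 0, 0, -1]])]

theorem chain12 : ChainOK Am T12 := by decide +kernel

theorem eig12_12 : EigOK (hd T12) c12 (f := 3) ![![0, -1, 0, -1, -1, -1, 0, 0],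
      ![0, 0, -1, -1, -1, 0, 0, 0],
      ![-1, 0, -1, -1, 0, 0, 0, 0],
      ![0, -1, 0, 0, 0, 0, 0, 0]]
    ![0, 0, 1, -1, 0, 0, 0, 0] := by decide +kernel

theorem eig12_2 : EigOK (hd T12) c2 (f := 0) ![![0, 0, 0, 0, 0, 0, 0, 1]]
    ![0, 0, 0, 0, 0, 0, 0, 1] := by decide +kernel

/-- the partial products -/
def T14 : List (Fin 8 × Mat 8) := [
    (5, ![![0, 1, 1, 1, 0, 0, 0, 0],
        ![1, 1, 1, 2, 1, 1, 0, 0],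
        ![0, 0, 0, 0, 1, 1, 0, 0],
        ![0, -1, 0, -1, -1, -1, 0, 0],
        ![-1, 0, -1, 0, 0, 0, 0, 0],
        ![1, 1, 1, 1, 1, 1, 1, 0],
        ![0, 0, 0, 0, 0, -1, -1, 0],
        ![0, 0, 0, 0, 0, 1, 1, 1]]),
    (1, ![![0, 1, 1, 1, 0, 0, 0, 0],
        ![1, 1, 1, 2, 1, 0, 0, 0],
        ![0, 0, 0, 0, 1, 0, 0, 0],
        ![0, -1, 0, -1, -1, 0, 0, 0],
        ![-1, 0, -1, 0, 0, 0, 0, 0],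
        ![1, 1, 1, 1, 1, 1, 1, 0],
        ![0, 0, 0, 0, 0, 0, -1, 0],
        ![0, 0, 0, 0, 0, 0, 1, 1]]),
    (3, ![![0, 0, 1, 1, 0, 0, 0, 0],
        ![1, 1, 1, 2, 1, 0, 0, 0],
        ![0, 0, 0, 0, 1, 0, 0, 0],
        ![0, 0, 0, -1, -1, 0, 0, 0],
        ![-1, 0, -1, 0, 0, 0, 0, 0],
        ![1, 0, 1, 1, 1, 1, 1, 0],
        ![0, 0, 0, 0, 0, 0, -1, 0],
        ![0, 0, 0, 0, 0, 0, 1, 1]]),
    (0, ![![0, 0, 1, 0, 0, 0, 0, 0],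
        ![1, 1, 1, 1, 1, 0, 0, 0],
        ![0, 0, 0, 1, 1, 0, 0, 0],
        ![0, 0, 0, 0, -1, 0, 0, 0],
        ![-1, 0, -1, -1, 0, 0, 0, 0],
        ![1, 0, 1, 1, 1, 1, 1, 0],
        ![0, 0, 0, 0, 0, 0, -1, 0],
        ![0, 0, 0, 0, 0, 0, 1, 1]]),
    (2, ![![1, 0, 1, 0, 0, 0, 0, 0],
        ![0, 1, 1, 1, 1, 0, 0, 0],
        ![0, 0, 0, 1, 1, 0, 0, 0],
        ![0, 0, 0, 0, -1, 0, 0, 0],
        ![0, 0, -1, -1, 0, 0, 0, 0],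
        ![0, 0, 1, 1, 1, 1, 1, 0],
        ![0, 0, 0, 0, 0, 0, -1, 0],
        ![0, 0, 0, 0, 0, 0, 1, 1]]),
    (6, ![![1, 0, 0, 0, 0, 0, 0, 0],
        ![0, 1, 0, 1, 1, 0, 0, 0],
        ![0, 0, 1, 1, 1, 0, 0, 0],
        ![0, 0, 0, 0, -1, 0, 0, 0],
        ![0, 0, 0, -1, 0, 0, 0, 0],
        ![0, 0, 0, 1, 1, 1, 1, 0],
        ![0, 0, 0, 0, 0, 0, -1, 0],
        ![0, 0, 0, 0, 0, 0, 1, 1]]),
    (4, ![![1, 0, 0, 0, 0, 0, 0, 0],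
        ![0, 1, 0, 1, 1, 0, 0, 0],
        ![0, 0, 1, 1, 1, 0, 0, 0],
        ![0, 0, 0, 0, -1, 0, 0, 0],
        ![0, 0, 0, -1, 0, 0, 0, 0],
        ![0, 0, 0, 1, 1, 1, 0, 0],
        ![0, 0, 0, 0, 0, 0, 1, 0],
        ![0, 0, 0, 0, 0, 0, 0, 1]]),
    (3, ![![1, 0, 0, 0, 0, 0, 0, 0],
        ![0, 1, 0, 1, 0, 0, 0, 0],
        ![0, 0, 1, 1, 0, 0, 0, 0],
        ![0, 0, 0, 0, 1, 0, 0, 0],
        ![0, 0, 0, -1, -1, 0, 0, 0],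
        ![0, 0, 0, 1, 1, 1, 0, 0],
        ![0, 0, 0, 0, 0, 0, 1, 0],
        ![0, 0, 0, 0, 0, 0, 0, 1]]),
    (4, ![![1, 0, 0, 0, 0, 0, 0, 0],
        ![0, 1, 0, 0, 0, 0, 0, 0],
        ![0, 0, 1, 0, 0, 0, 0, 0],
        ![0, 0, 0, 1, 1, 0, 0, 0],
        ![0, 0, 0, 0, -1, 0, 0, 0],
        ![0, 0, 0, 0, 1, 1, 0, 0],
        ![0, 0, 0, 0, 0, 0, 1, 0],
        ![0, 0, 0, 0, 0, 0, 0, 1]])]

theorem chain14 : ChainOK Am T14 := by decide +kernel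

theorem eig14_14 : EigOK (hd T14) c14 (f := 5) ![![0, 0, 0, 0, 1, 1, 1, 0],
      ![0, 0, 1, 1, 0, 0, -1, 0],
      ![1, 1, 1, 1, 1, 0, 1, 0],
      ![0, 0, 0, 1, 0, 1, 0, 0],
      ![0, 1, 0, 0, 1, 0, 0, 0],
      ![0, -1, 0, -1, -1, 0, 0, 0]]
    ![0, -1, 0, 0, 1, 0, 0, 0] := by decide +kernel

theorem eig14_2 : EigOK (hd T14) c2 (f := 0) ![![2, -1, 0, 0, 1, 0, -1, 0]]
    ![0, -1, 0, 0, 0, 0, 0, 0] := by decide +kernel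

/-- the partial products -/
def T18 : List (Fin 8 × Mat 8) := [
    (0, ![![0, 0, 1, 0, 0, 0, 0, 0],
        ![1, 0, 1, 1, 0, 0, 0, 0],
        ![0, 1, 0, 1, 0, 0, 0, 0],
        ![0, 0, 0, 0, 1, 0, 0, 0],
        ![0, 0, 0, 0, 0, 1, 0, 0],
        ![0, 0, 0, 0, 0, 0, 1, 0],
        ![-1, -1, -1, -1, -1, -1, -1, 0],
        ![1, 1, 1, 1, 1, 1, 1, 1]]),
    (1, ![![1, 0, 1, 0, 0, 0, 0, 0],
        ![0, 0, 1, 1, 0, 0, 0, 0],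
        ![0, 1, 0, 1, 0, 0, 0, 0],
        ![0, 0, 0, 0, 1, 0, 0, 0],
        ![0, 0, 0, 0, 0, 1, 0, 0],
        ![0, 0, 0, 0, 0, 0, 1, 0],
        ![0, -1, -1, -1, -1, -1, -1, 0],
        ![0, 1, 1, 1, 1, 1, 1, 1]]),
    (2, ![![1, 0, 1, 0, 0, 0, 0, 0],
        ![0, 1, 1, 1, 0, 0, 0, 0],
        ![0, 0, 0, 1, 0, 0, 0, 0],
        ![0, 0, 0, 0, 1, 0, 0, 0],
        ![0, 0, 0, 0, 0, 1, 0, 0],
        ![0, 0, 0, 0, 0, 0, 1, 0],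
        ![0, 0, -1, -1, -1, -1, -1, 0],
        ![0, 0, 1, 1, 1, 1, 1, 1]]),
    (3, ![![1, 0, 0, 0, 0, 0, 0, 0],
        ![0, 1, 0, 1, 0, 0, 0, 0],
        ![0, 0, 1, 1, 0, 0, 0, 0],
        ![0, 0, 0, 0, 1, 0, 0, 0],
        ![0, 0, 0, 0, 0, 1, 0, 0],
        ![0, 0, 0, 0, 0, 0, 1, 0],
        ![0, 0, 0, -1, -1, -1, -1, 0],
        ![0, 0, 0, 1, 1, 1, 1, 1]]),
    (4, ![![1, 0, 0, 0, 0, 0, 0, 0],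
        ![0, 1, 0, 0, 0, 0, 0, 0],
        ![0, 0, 1, 0, 0, 0, 0, 0],
        ![0, 0, 0, 1, 1, 0, 0, 0],
        ![0, 0, 0, 0, 0, 1, 0, 0],
        ![0, 0, 0, 0, 0, 0, 1, 0],
        ![0, 0, 0, 0, -1, -1, -1, 0],
        ![0, 0, 0, 0, 1, 1, 1, 1]]),
    (5, ![![1, 0, 0, 0, 0, 0, 0, 0],
        ![0, 1, 0, 0, 0, 0, 0, 0],
        ![0, 0, 1, 0, 0, 0, 0, 0],
        ![0, 0, 0, 1, 0, 0, 0, 0],
        ![0, 0, 0, 0, 1, 1, 0, 0],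
        ![0, 0, 0, 0, 0, 0, 1, 0],
        ![0, 0, 0, 0, 0, -1, -1, 0],
        ![0, 0, 0, 0, 0, 1, 1, 1]]),
    (6, ![![1, 0, 0, 0, 0, 0, 0, 0],
        ![0, 1, 0, 0, 0, 0, 0, 0],
        ![0, 0, 1, 0, 0, 0, 0, 0],
        ![0, 0, 0, 1, 0, 0, 0, 0],
        ![0, 0, 0, 0, 1, 0, 0, 0],
        ![0, 0, 0, 0, 0, 1, 1, 0],
        ![0, 0, 0, 0, 0, 0, -1, 0],
        ![0, 0, 0, 0, 0, 0, 1, 1]])]

theorem chain18 : ChainOK Am T18 := by decide +kernel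

theorem eig18_18 : EigOK (hd T18) c18 (f := 5) ![![0, 0, -1, 0, 0, 0, 0, 0],
      ![-1, 0, 0, 0, 0, 0, 0, 0],
      ![1, 0, 1, 1, 1, 1, 1, 0],
      ![0, 1, 1, 1, 1, 1, 0, 0],
      ![1, 0, 1, 1, 1, 0, 0, 0],
      ![0, 1, 0, 1, 0, 0, 0, 0]]
    ![0, 0, -1, 0, 1, 0, 0, 0] := by decide +kernel

theorem eig18_2 : EigOK (hd T18) c2 (f := 0) ![![0, -1, 0, 0, -1, 0, -1, 0]]
    ![0, -1, 0, 0, 0, 0, 0, 0] := by decide +kernel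

end Cfsg.Agent.H413.E8.TabTwo
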